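import Cfsg.Agent.Lib.Fusion.MaxClassCube.Helpers

/-!
The essential subgroup cannot contain the second centre.
-/

set_option autoImplicit false
set_option linter.unusedSectionVars false

namespace Cfsg.MaxClassCube

open scoped commutatorElement
open FusionSystem

variable {Ω : Type*} [Group Ω] {S : Subgroup Ω} [Finite S] {p : ℕ} [Fact p.Prime] {n : ℕ}
  {F : FusionSystem S} {E : Subgroup Ω}

namespace Cube

/-- Moving the centre inside the second centre. -/
theorem false_of_moved (h : Cube p n F E) (h6 : 6 ≤ n) {z : Ω} {k : E} (ht : Trans p S E (L S (n - 2)) z k)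
    (hk : (k : Ω) ∉ L S (n - 1)) {σ : normalizerIn S E →* Ω} (hσ : σ ∈ F.Hom (normalizerIn S E))
    (hA : ∀ x : normalizerIn S E, (x : Ω) ∈ L S (n - 2) → σ x ∈ L S (n - 2)) {g₀ : Ω} (hg₀ : g₀ ∈ L S (n - 1))
    (hg₁ : g₀ ≠ 1) (hg₂ : g₀ ∈ normalizerIn S E) (hσg : σ ⟨g₀, hg₂⟩ ∉ L S (n - 1)) : False := by
  have hpp : p.Prime := Fact.out
  have hAN : L S (n - 2) ≤ normalizerIn S E := ht.le.trans (le_normalizerIn h.le)
  haveI : Finite (L S (n - 2)) := finite_of_le L_le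
  haveI : Finite (normalizerIn S E) := finite_normalizerIn
  have hkA : (k : Ω) ∈ L S (n - 2) := ht.tv.kZ
  have hk1 : (k : Ω) ≠ 1 := fun e => hk (e ▸ one_mem _)
  have hkp : orderOf (k : Ω) = p := h.zpow_p k.2 hk1
  have hk' : (k : Ω) ∉ L S (n - 2 + 1) := by rwa [show n - 2 + 1 = n - 1 by omega]
  obtain ⟨s, hsS, hs⟩ := h.mc.C2s_ne (k := n - 2) (by omega) (by omega)
  have hw : ⁅s, (k : Ω)⁆ ∈ L S (n - 1) := by
    have := comm_mem_succ hkA hsS
    rw [show n - 2 + 1 = n - 1 by omega] at this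
    rw [← commutatorElement_inv]
    exact inv_mem this
  have hw1 : ⁅s, (k : Ω)⁆ ≠ 1 := by
    intro e
    refine hs (mem_C2s_of_comm hsS fun x hx => ?_)
    obtain ⟨c, hc, i, rfl⟩ := h.mc.layer_decomp (by omega) hkA hk' hx
    rw [show n - 2 + 1 = n - 1 by omega] at hc
    have h1 : Commute (k : Ω) s := (commutatorElement_eq_one_iff_mul_comm.mp e).symm
    have h2 : Commute c s := h.last_central hc hsS
    rw [commutatorElement_eq_one_iff_commute.mpr (h2.mul_left (h1.zpow_left i))]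
    exact one_mem _
  have hwA : ⁅s, (k : Ω)⁆ ∈ L S (n - 2) := L_anti (by omega) hw
  set v₀ : normalizerIn S E := ⟨g₀, hg₂⟩ with hv₀
  obtain ⟨c, hc, i, hi⟩ := h.mc.layer_decomp (by omega) hkA hk' (hA v₀ (L_anti (by omega) hg₀))
  rw [show n - 2 + 1 = n - 1 by omega] at hc
  have hni : ¬ (p : ℤ) ∣ i := by
    rintro ⟨d, rfl⟩
    refine hσg ?_
    rw [hi, zpow_mul, zpow_natCast, h.exp k k.2, one_zpow, mul_one]
    exact hc
  obtain ⟨j, rfl⟩ := (h.mc.last_eq hw hw1).le hc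
  have hg₀p : orderOf (σ v₀) = p := by
    rw [orderOf_injective σ (F.injective_of_mem hσ), ← Subgroup.orderOf_coe]
    refine h.zpow_p (h.top_le hg₀) hg₁
  haveI : Finite (Subgroup.zpowers (σ v₀)) :=
    Nat.finite_of_card_ne_zero (by rw [Nat.card_zpowers, hg₀p]; exact hpp.ne_zero)
  have hnb : ∀ x : Ω, x ∈ Subgroup.normalizer ((⊥ : Subgroup Ω) : Set Ω) := fun x =>
    Subgroup.mem_normalizer_iff.mpr fun y => by simp [mul_inv_eq_one]
  obtain ⟨t, ht'⟩ := exists_conj_image (p := p) (K := ⊥) (R := Subgroup.zpowers (σ v₀)) (hnb s) (hnb (k : Ω))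
    (hnb _) (by rw [h.exp k k.2]; exact one_mem _)
    (by rw [commutatorElement_eq_one_iff_mul_comm.mpr (h.last_central hw (L_le hkA)).symm]; exact one_mem _) rfl
    (by rw [commutatorElement_eq_one_iff_mul_comm.mpr (h.last_central hw hsS).symm]; exact one_mem _) bot_le
    (by rw [bot_sup_eq, Nat.card_zpowers, Nat.card_zpowers, hkp, hg₀p]) (Subgroup.mem_zpowers _)
    (Subgroup.one_mem (⊥ : Subgroup Ω)) (show σ v₀ = 1 * (k : Ω) ^ i * ⁅s, (k : Ω)⁆ ^ j by
      rw [one_mul, hi]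
      exact (Commute.zpow_zpow (h.last_central hw (L_le hkA)) j i).eq) hni
  have hst : s ^ t ∈ S := S.zpow_mem hsS t
  have hmap : (L S (n - 2)).map (MulAut.conj (s ^ t)).toMonoidHom = ((L S (n - 2)).subgroupOf (normalizerIn S E)).map σ := by
    refine (Subgroup.eq_of_le_of_card_ge (K := L S (n - 2)) ?_ ?_).trans (Subgroup.eq_of_le_of_card_ge ?_ ?_).symm
    · rintro _ ⟨x, hx, rfl⟩
      exact conj_mem_L hx hst
    · rw [Subgroup.card_map_of_injective (MulEquiv.injective _)]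
    · rintro _ ⟨x, hx, rfl⟩
      exact hA x hx
    · rw [Subgroup.card_map_of_injective (F.injective_of_mem hσ), Nat.card_congr (Subgroup.subgroupOfEquivOfLe hAN).toEquiv]
  obtain ⟨ψ, hψ, hψr, hψe⟩ := h.exists_pull hσ L_le hAN hst hmap
  obtain ⟨m, hm⟩ : s ^ t * (k : Ω) * (s ^ t)⁻¹ ∈ Subgroup.zpowers (σ v₀) := by
    rw [← ht']
    exact ⟨k, Subgroup.mem_sup_right (Subgroup.mem_zpowers _), rfl⟩
  refine h.false_of_map h6 ht.tv ht.hP ht.le (h.normalizer_le_centralizer ht) hkA hψ hψr ?_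
  rw [hψe ⟨k, hkA⟩ (v₀ ^ m) ((L S (n - 2)).zpow_mem (L_anti (by omega) hg₀) m) (by rw [map_zpow]; exact hm)]
  exact (L S (n - 1)).zpow_mem hg₀ m

theorem false_of_two_le (h : Cube p n F E) (h2 : L S (n - 2) ≤ E) : False := by
  have h5 := h.mc.five
  have hp5 := h.mc.pfive
  have hpp : p.Prime := Fact.out
  haveI := h.finE
  haveI : Finite (normalizerIn S E) := finite_normalizerIn
  haveI : Finite (L S (n - 2)) := finite_of_le L_le
  haveI : Finite (L S (n - 3)) := finite_of_le L_le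
  haveI : Finite (C2s S (n - 2)) := finite_of_le C2s_le
  have hA : Nat.card (L S (n - 2)) = p ^ 2 := by
    rw [h.mc.card_L (by omega) (by omega), show n - (n - 2) = 2 by omega]
  have h3c : Nat.card (L S (n - 3)) = p ^ 3 := by
    rw [h.mc.card_L (by omega) (by omega), show n - (n - 3) = 3 by omega]
  have hEC : E ≤ C2s S (n - 2) := fun e he => mem_C2s_of_comm (h.le he) fun w hw => by
    rw [commutatorElement_eq_one_iff_mul_comm.mpr (h.comm w (h2 hw) e he)]
    exact one_mem _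
  have hzA : ∀ {z : Ω}, z ∈ C2s S (n - 2) → ∀ a ∈ L S (n - 2), z * a = a * z := fun hz a ha =>
    (h.comm_last hz ha).symm
  obtain ⟨e₀, he₀, he₀A⟩ : ∃ e₀ ∈ E, e₀ ∉ L S (n - 2) := by
    by_contra hh
    push Not at hh
    have := Subgroup.card_le_of_le (show E ≤ L S (n - 2) from hh)
    rw [h.card, hA, Nat.pow_le_pow_iff_right hpp.one_lt] at this
    omega
  have hE3 : E ≠ L S (n - 3) := by
    intro hE
    obtain ⟨z, hz, hzE⟩ : ∃ z ∈ C2s S (n - 2), z ∉ E := by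
      by_contra hh
      push Not at hh
      have := Subgroup.card_le_of_le (show C2s S (n - 2) ≤ E from hh)
      rw [h.mc.card_C2s (by omega) (by omega), h.card, Nat.pow_le_pow_iff_right hpp.one_lt] at this
      omega
    obtain ⟨k, -, ht⟩ := h.exists_trans h2 hA (C2s_le hz) hzE (hzA hz) (fun e he => by
      have := comm_mem_succ (hE.le he) (C2s_le hz)
      rw [show n - 3 + 1 = n - 2 by omega] at this
      rw [← commutatorElement_inv]
      exact inv_mem this) he₀ he₀A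
    have hS : S ≤ normalizerIn S E := fun g hg => ⟨hg, by rw [hE]; exact le_normalizer_L hg⟩
    have := Subgroup.card_le_of_le hS
    rw [h.mc.card, h.Trans_card ht, Nat.pow_le_pow_iff_right hpp.one_lt] at this
    omega
  have he₀3 : e₀ ∉ L S (n - 3) := by
    intro he
    refine hE3 (Subgroup.eq_of_le_of_card_ge (fun x hx => ?_) (h3c.trans h.card.symm).le)
    obtain ⟨a, ha, i, rfl⟩ := h.decomp h2 hA he₀ he₀A hx
    exact Subgroup.mul_mem _ (L_anti (by omega) ha) (Subgroup.zpow_mem _ he i)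
  obtain ⟨z, hz3, hzE⟩ : ∃ z ∈ L S (n - 3), z ∉ E := by
    by_contra hh
    push Not at hh
    exact hE3 (Subgroup.eq_of_le_of_card_ge (show L S (n - 3) ≤ E from hh) (h.card.trans h3c.symm).le).symm
  have hcm : ∀ g ∈ L S (n - 3), ∀ s ∈ S, ⁅g, s⁆ ∈ L S (n - 2) := fun g hg s hs => by
    have := comm_mem_succ hg hs
    rwa [show n - 3 + 1 = n - 2 by omega] at this
  have hcm' : ∀ g ∈ L S (n - 3), ∀ s ∈ S, ⁅s, g⁆ ∈ L S (n - 2) := fun g hg s hs => by
    rw [← commutatorElement_inv]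
    exact inv_mem (hcm g hg s hs)
  obtain ⟨k, hk, ht⟩ := h.exists_trans h2 hA (L_le hz3) hzE (hzA (L_le_C2s (by omega) hz3))
    (fun e he => hcm z hz3 e (h.le he)) he₀ he₀A
  have h3N : L S (n - 3) ≤ normalizerIn S E := fun g hg => ⟨L_le hg, mem_normalizer_of_comm fun e he =>
    h2 (hcm g hg e (h.le he))⟩
  have hN := h.Trans_card ht
  have hEnC : 6 ≤ n → ¬ E ≤ C2s S 2 := fun h6 hle => h.false_of_le_C2s h6 hN (F.isConj_refl h.le) hle h2
  obtain ⟨y, hy4, hyN⟩ : ∃ y ∈ L S (n - 4), y ∉ normalizerIn S E := by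
    by_contra hh
    push Not at hh
    rcases Nat.lt_or_ge n 6 with h6 | h6
    · have := Subgroup.card_le_of_le (show L S (n - 4) ≤ normalizerIn S E from hh)
      rw [L_one (show n - 4 ≤ 1 by omega), h.mc.card, hN, Nat.pow_le_pow_iff_right hpp.one_lt] at this
      omega
    · have heq : L S (n - 4) = normalizerIn S E := Subgroup.eq_of_le_of_card_ge hh (by
        rw [hN, h.mc.card_L (by omega) (by omega), show n - (n - 4) = 4 by omega])
      exact hEnC h6 (((le_normalizerIn h.le).trans heq.ge).trans (L_le_C2s (by omega)))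
  have hyS : y ∈ S := L_le hy4
  have hy3 : ⁅y, e₀⁆ ∈ L S (n - 3) := by
    have := comm_mem_succ hy4 (h.le he₀)
    rwa [show n - 4 + 1 = n - 3 by omega] at this
  have hw : ⁅y, e₀⁆ ∉ L S (n - 2) := fun hc =>
    hyN ⟨hyS, h.mem_normalizer_of_step h2 hA he₀ he₀A (le_normalizer_L hyS) hc⟩
  obtain ⟨l, -, M, hMA, hkM, hdec, htor⟩ := h.exists_sigma ht
  obtain ⟨a, b, hab, ha0, hord⟩ := exists_unit (p := p)
  obtain ⟨σ, hσ, hσr, hσk, -, hσM, -, hσA, hσz⟩ := htor a b hab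
  have h3 := h.sigma_third ht (L_anti (by omega)) h3N hE3 he₀ he₀A hyS (le_normalizer_L hyS)
    (fun v hv => hcm' v hv y hyS) hy3 hw (fun v hv x hx => conj_mem_L hx (L_le hv))
    (fun v hv => hcm' v hv e₀ (h.le he₀)) hσ hσr hσA
  -- the image of `z`
  have hzN := ht.mem
  have hz2 : z ∉ L S (n - 2) := fun hh => hzE (h2 hh)
  obtain ⟨u, hu, J, hJ⟩ : ∃ u ∈ L S (n - 2), ∃ J : ℤ, σ ⟨z, hzN⟩ = u * z ^ J := by
    have := h.mc.layer_decomp (j := n - 3) (by omega) hz3 (by rwa [show n - 3 + 1 = n - 2 by omega])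
      ((h3 ⟨z, hzN⟩).mpr hz3)
    rwa [show n - 3 + 1 = n - 2 by omega] at this
  have hJb := hσz u J hzN hu hJ
  have hJ2 : (p : ℤ) ∣ J - ((a * a : ℕ) : ℤ) := by
    have e : J - ((a * a : ℕ) : ℤ) = -J * ((a : ℤ) * b - 1) + (a : ℤ) * (J * b - a) := by push_cast; ring
    rw [e]
    exact dvd_add (dvd_mul_of_dvd_right hab _) (dvd_mul_of_dvd_right hJb _)
  have hkA : (k : Ω) ∈ L S (n - 2) := ht.tv.kZ
  have hk1 : (k : Ω) ≠ 1 := fun e => by
    have := ht.tv.korder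
    rw [show k = 1 from Subtype.ext e, orderOf_one] at this
    exact hpp.one_lt.ne this
  have hA' : ∀ x : S, (x : Ω) ∈ L S (n - 2) → (x : Ω) ∈ normalizerIn S E := fun x hx =>
    le_normalizerIn h.le (h2 hx)
  have hfil : ∀ {j : ℕ} {x : Ω} (hxS : x ∈ S), x ∉ L S j → (⟨x, hxS⟩ : S) ∉ CfsgLib.PolySeq.fil S j :=
    fun hxS hx hh => hx (mem_L.mpr hh)
  have hbot : ∀ {x : Ω}, x ≠ 1 → x ∉ L S n := fun hx hh => hx (by
    rwa [h.mc.L_eq_bot le_rfl, Subgroup.mem_bot] at hh)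
  have hodd := hpp.odd_of_ne_two (show p ≠ 2 by omega)
  rcases Nat.lt_or_ge n 6 with h6 | h6
  · have heq : C2s S (n - 2) = C2s S 2 := by
      by_contra hne
      have := Nat.even_iff.mp (h.mc.even_of_last_ne hne)
      omega
    have hkL : (k : Ω) ∈ L S (n - 1) := by
      have h1 := comm_mem_of_C2s (k := 2) (heq ▸ hEC he₀) (L_anti (by omega) hz3)
      rw [hk, show e₀⁻¹ * (z * e₀ * z⁻¹) = e₀⁻¹ * ⁅z, e₀⁆ * e₀⁻¹⁻¹ by rw [commutatorElement_def]; group]
      exact conj_mem_L (L_anti (by omega) h1) (S.inv_mem (h.le he₀))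
    obtain ⟨m, hm, hm1⟩ : ∃ m ∈ M, (m : Ω) ∉ L S (n - 1) := by
      obtain ⟨x, hx, hx'⟩ := h.mc.exists_gen (j := n - 2) (by omega) (by omega)
      rw [show n - 2 + 1 = n - 1 by omega] at hx'
      obtain ⟨m, hm, i, hi⟩ := hdec ⟨x, h2 hx⟩ hx
      refine ⟨m, hm, fun hh => hx' ?_⟩
      have := congrArg Subtype.val hi
      rw [Subgroup.coe_mul, SubgroupClass.coe_zpow] at this
      rw [show x = (m : Ω) * (k : Ω) ^ i from this]
      exact Subgroup.mul_mem _ hh (Subgroup.zpow_mem _ hkL i)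
    have hkZ := h.mc.last_eq hkL hk1
    have hkN : (k : Ω) ∈ normalizerIn S E := le_normalizerIn h.le k.2
    obtain ⟨α, hα⟩ := h.exists_alpha h3N hσ h3 hσA fun v hv => mapsTo_zpowers hkZ hkN
      (by rw [hσk]; exact Subgroup.zpow_mem _ hkL _) v hv
    obtain ⟨q, e1, e2⟩ := CfsgLib.MaxClassDegree.weights_eq h.mc.three h.mc.card h.mc.cls h5
      (Subgroup.map_injective S.subtype_injective heq) α (j₁ := a) (j₂ := 1) (j₃ := a * a)
      (mem_L.mp (show ((⟨k, h.le k.2⟩ : S) : Ω) ∈ L S (n - 1) from hkL)) (hfil _ (hbot hk1))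
      (h.weight h3N hα (k := n - 1) (by omega) (by omega) (h.le k.2) hkL (one_mem _) (J := (a : ℤ)) (by simp)
        (fun hx' => by rw [one_mul, hσk]))
      (mem_L.mp (show ((⟨m, h.le m.2⟩ : S) : Ω) ∈ L S (n - 2) from hMA hm)) (hfil _ hm1)
      (h.weight h3N hα (k := n - 2) (by omega) (by omega) (h.le m.2) (hMA hm) (one_mem _) (J := (1 : ℤ)) (by simp)
        (fun hx' => by rw [one_mul, zpow_one, hσM m hm]))
      (mem_L.mp (show ((⟨z, L_le hz3⟩ : S) : Ω) ∈ L S (n - 3) from hz3)) (hfil _ hz2)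
      (h.weight h3N hα (k := n - 3) le_rfl (by omega) (L_le hz3) hz3 hu hJ2 (fun hx' => hJ))
    push_cast at e1 e2
    have h13 : (a : ZMod p) ^ 3 = 1 := by linear_combination -e1 + (a : ZMod p) ^ 2 * e2
    have := Nat.le_of_dvd (by norm_num) (hord 3 h13)
    omega
  · have hnE := hEnC h6
    have hne : C2s S (n - 2) ≠ C2s S 2 := fun e => hnE (hEC.trans e.le)
    have hev := Nat.even_iff.mp (h.mc.even_of_last_ne hne)
    have hkL : (k : Ω) ∉ L S (n - 1) := fun hkL => hnE fun e he => by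
      rw [← h.mc.twoStep_eq (k := n - 3) (by omega) (by omega)]
      refine mem_C2s_of_comm (h.le he) fun w hw => ?_
      rw [show n - 3 + 2 = n - 1 by omega, ← commutatorElement_inv]
      exact inv_mem ((Subgroup.zpowers_le.mpr hkL) (h.range_comm ht.tv ht.hP (h3N hw) he))
    obtain ⟨g₀, hg₀, hg₀'⟩ := h.mc.exists_gen (j := n - 1) (by omega) (by omega)
    rw [show n - 1 + 1 = n by omega] at hg₀'
    have hg₁ : g₀ ≠ 1 := fun e => hg₀' (e ▸ one_mem _)
    have hg₂ : g₀ ∈ normalizerIn S E := le_normalizerIn h.le (h.top_le hg₀)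
    by_cases hσg : σ ⟨g₀, hg₂⟩ ∈ L S (n - 1)
    swap
    · exact h.false_of_moved h6 ht hkL hσ hσA hg₀ hg₁ hg₂ hσg
    -- then the generator of the centre is fixed
    obtain ⟨m, hm, i, hi⟩ := hdec ⟨g₀, h.top_le hg₀⟩ (L_anti (by omega) hg₀)
    have hgm : g₀ = (m : Ω) * (k : Ω) ^ i := by
      have := congrArg Subtype.val hi
      rwa [Subgroup.coe_mul, SubgroupClass.coe_zpow] at this
    have hfix : σ ⟨g₀, hg₂⟩ = g₀ := by
      have e : (⟨g₀, hg₂⟩ : normalizerIn S E) =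
          ⟨m, le_normalizerIn h.le m.2⟩ * (⟨k, le_normalizerIn h.le k.2⟩ : normalizerIn S E) ^ i := Subtype.ext (by
        rw [Subgroup.coe_mul, SubgroupClass.coe_zpow]; exact hgm)
      have hv : σ ⟨g₀, hg₂⟩ = (m : Ω) * ((k : Ω) ^ (a : ℤ)) ^ i := by
        rw [e, map_mul, map_zpow, hσM m hm, hσk]
      rw [hv] at hσg ⊢
      rw [hgm] at hg₀
      have h1 : ((k : Ω) ^ (a : ℤ)) ^ i * ((k : Ω) ^ i)⁻¹ ∈ L S (n - 1) := by
        have := (L S (n - 1)).mul_mem ((L S (n - 1)).inv_mem hg₀) hσg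
        rw [show ((m : Ω) * (k : Ω) ^ i)⁻¹ * ((m : Ω) * ((k : Ω) ^ (a : ℤ)) ^ i) =
          ((k : Ω) ^ (a : ℤ)) ^ i * ((k : Ω) ^ i)⁻¹ by group] at this
        exact this
      have h2 : ((k : Ω) ^ (a : ℤ)) ^ i = (k : Ω) ^ i := by
        by_contra hne'
        have hne2 : ((k : Ω) ^ (a : ℤ)) ^ i * ((k : Ω) ^ i)⁻¹ ≠ 1 := fun e => hne' (mul_inv_eq_one.mp e)
        have hmem : ((k : Ω) ^ (a : ℤ)) ^ i * ((k : Ω) ^ i)⁻¹ ∈ Subgroup.zpowers (k : Ω) :=
          Subgroup.mul_mem _ (Subgroup.zpow_mem _ (Subgroup.zpow_mem _ (Subgroup.mem_zpowers _) _) _)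
            (Subgroup.inv_mem _ (Subgroup.zpow_mem _ (Subgroup.mem_zpowers _) _))
        have hle : L S (n - 1) ≤ Subgroup.zpowers (k : Ω) :=
          (h.mc.last_eq h1 hne2).le.trans (Subgroup.zpowers_le.mpr hmem)
        haveI : Finite (Subgroup.zpowers (k : Ω)) := Finite.of_injective _
          (Subgroup.inclusion_injective (Subgroup.zpowers_le.mpr hkA))
        exact hkL ((Subgroup.eq_of_le_of_card_ge hle (by
          rw [h.mc.card_last, Nat.card_zpowers, h.zpow_p k.2 hk1])).ge (Subgroup.mem_zpowers _))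
      rw [h2, hgm]
    obtain ⟨α, hα⟩ := h.exists_alpha h3N hσ h3 hσA fun v hv => mapsTo_zpowers (h.mc.last_eq hg₀ hg₁) hg₂ hσg v hv
    obtain ⟨q, r, e1, e2, e3⟩ := CfsgLib.MaxClassDegree.weights_ne h.mc.three h.mc.card h.mc.cls h6
      (fun e => hne (by rw [C2s, C2s, e])) α (j₁ := 1) (j₂ := a) (j₃ := a * a)
      (mem_L.mp (show ((⟨g₀, L_le hg₀⟩ : S) : Ω) ∈ L S (n - 1) from hg₀)) (hfil _ (hbot hg₁))
      (h.weight h3N hα (k := n - 1) (by omega) (by omega) (L_le hg₀) hg₀ (one_mem _) (J := (1 : ℤ)) (by simp)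
        (fun hx' => by rw [one_mul, zpow_one]; exact hfix))
      (mem_L.mp (show ((⟨k, h.le k.2⟩ : S) : Ω) ∈ L S (n - 2) from hkA)) (hfil _ hkL)
      (h.weight h3N hα (k := n - 2) (by omega) (by omega) (h.le k.2) hkA (one_mem _) (J := (a : ℤ)) (by simp)
        (fun hx' => by rw [one_mul, hσk]))
      (mem_L.mp (show ((⟨z, L_le hz3⟩ : S) : Ω) ∈ L S (n - 3) from hz3)) (hfil _ hz2)
      (h.weight h3N hα (k := n - 3) le_rfl (by omega) (L_le hz3) hz3 hu hJ2 (fun hx' => hJ))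
    push_cast at e1 e2 e3
    have hq : q * (a : ZMod p) = 1 := mul_left_cancel₀ ha0 (by linear_combination -e1)
    have hpow : (a : ZMod p) ^ (n - 1) = 1 := by
      rw [show n - 1 = (n - 4) + 3 by omega, pow_add]
      calc (a : ZMod p) ^ (n - 4) * (a : ZMod p) ^ 3 = ((a : ZMod p) * q) ^ (n - 4) * (r * a) := by
            rw [mul_pow]; linear_combination ((a : ZMod p) ^ (n - 4) * (a : ZMod p)) * e3
        _ = 1 := by rw [mul_comm (a : ZMod p) q, hq, one_pow, one_mul, mul_comm r, ← e2]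
    have hd := hord _ hpow
    obtain ⟨d, hd'⟩ := hodd
    have h2d : 2 ∣ n - 1 := dvd_trans ⟨d, by omega⟩ hd
    omega

end Cube

end Cfsg.MaxClassCube
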