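import Cfsg.Agent.Lib.Fusion.MaxClassCube.Helpers

/-!
The essential subgroup must contain the second centre.
-/

set_option autoImplicit false
set_option linter.unusedSectionVars false

namespace Cfsg.MaxClassCube

open scoped commutatorElement
open FusionSystem

variable {Ω : Type*} [Group Ω] {S : Subgroup Ω} [Finite S] {p : ℕ} [Fact p.Prime] {n : ℕ}
  {F : FusionSystem S} {E : Subgroup Ω}

namespace Cube

/-- Moving the second centre inside the third. -/
theorem false_of_moved_third (h : Cube p n F E) (h6 : 6 ≤ n) {A : Subgroup Ω} {z : Ω} {k : E}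
    (ht : Trans p S E A z k) (hkL : (k : Ω) ∈ L S (n - 1)) (hk1 : (k : Ω) ≠ 1) (hA3 : A ≤ L S (n - 3))
    (h3N : L S (n - 3) ≤ normalizerIn S E) {m : Ω} (hmA : m ∈ A) (hm2 : m ∉ L S (n - 2))
    (hz : z ∈ L S (n - 2)) (hz' : z ∉ L S (n - 1)) {σ : normalizerIn S E →* Ω} (hσ : σ ∈ F.Hom (normalizerIn S E))
    (h3 : ∀ x : normalizerIn S E, σ x ∈ L S (n - 3) ↔ (x : Ω) ∈ L S (n - 3))
    (h1 : ∀ x : normalizerIn S E, σ x ∈ L S (n - 1) ↔ (x : Ω) ∈ L S (n - 1))
    (h1s : ∀ c ∈ L S (n - 1), ∃ x : normalizerIn S E, σ x = c)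
    (hmove : σ ⟨z, ht.mem⟩ ∉ L S (n - 2)) : False := by
  have hpp : p.Prime := Fact.out
  have h2N : L S (n - 2) ≤ normalizerIn S E := (L_anti (by omega)).trans h3N
  have h1N : L S (n - 1) ≤ normalizerIn S E := (L_anti (by omega)).trans h2N
  haveI : Finite (L S (n - 2)) := finite_of_le L_le
  haveI : Finite (normalizerIn S E) := finite_normalizerIn
  haveI : Finite A := finite_of_le (ht.le.trans h.le)
  have hm3 : m ∈ L S (n - 3) := hA3 hmA
  have hm2' : m ∉ L S (n - 3 + 1) := by rwa [show n - 3 + 1 = n - 2 by omega]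
  have h33 : ∀ x ∈ L S (n - 3), ∀ y ∈ L S (n - 3), Commute x y := fun x hx y hy => by
    have h1 := comm_mem_L hx hy
    rw [h.mc.L_eq_bot (show n ≤ n - 3 + (n - 3) by omega), Subgroup.mem_bot] at h1
    exact commutatorElement_eq_one_iff_commute.mp h1
  obtain ⟨r, hrS, hr⟩ := h.mc.C2s_ne (k := 2) le_rfl (by omega)
  have hrm : ⁅r, m⁆ ∈ L S (n - 2) := by
    have h1 := comm_mem_succ hm3 hrS
    rw [show n - 3 + 1 = n - 2 by omega] at h1
    rw [← commutatorElement_inv]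
    exact inv_mem h1
  have hrm' : ⁅r, m⁆ ∉ L S (n - 1) := by
    intro hh
    refine hr ?_
    rw [← h.mc.twoStep_eq (k := n - 3) (by omega) (by omega)]
    refine mem_C2s_of_comm hrS fun w hw => ?_
    rw [show n - 3 + 2 = n - 1 by omega]
    obtain ⟨u, hu, i, rfl⟩ := h.mc.layer_decomp (by omega) hm3 hm2' hw
    rw [show n - 3 + 1 = n - 2 by omega] at hu
    have hu' : ⁅u, r⁆ ∈ L S (n - 1) := by
      have := comm_mem_succ hu hrS
      rwa [show n - 2 + 1 = n - 1 by omega] at this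
    have hi : ⁅m ^ i, r⁆ = (⁅r, m⁆ ^ i)⁻¹ := by
      have hc : Commute ⁅r, m⁆ m := h.last_central hh (L_le hm3)
      rw [show ⁅m ^ i, r⁆ = m ^ i * (r * m ^ i * r⁻¹)⁻¹ by rw [commutatorElement_def]; group, ← conj_zpow,
        show r * m * r⁻¹ = ⁅r, m⁆ * m by rw [commutatorElement_def]; group, hc.mul_zpow, mul_inv_rev,
        mul_inv_cancel_left]
    rw [show ⁅u * m ^ i, r⁆ = u * ⁅m ^ i, r⁆ * u⁻¹ * ⁅u, r⁆ by simp only [commutatorElement_def]; group]
    refine Subgroup.mul_mem _ (conj_mem_L ?_ (L_le hu)) hu'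
    rw [hi]
    exact Subgroup.inv_mem _ (Subgroup.zpow_mem _ hh i)
  set R := ((L S (n - 2)).subgroupOf (normalizerIn S E)).map σ with hR
  have hRc : Nat.card R = p ^ 2 := by
    rw [hR, Subgroup.card_map_of_injective (F.injective_of_mem hσ),
      Nat.card_congr (Subgroup.subgroupOfEquivOfLe h2N).toEquiv, h.mc.card_L (by omega) (by omega),
      show n - (n - 2) = 2 by omega]
  haveI : Finite R := Nat.finite_of_card_ne_zero (by rw [hRc]; exact pow_ne_zero _ hpp.ne_zero)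
  have hKR : L S (n - 1) ≤ R := fun c hc => by
    obtain ⟨x, rfl⟩ := h1s c hc
    exact ⟨x, L_anti (show n - 2 ≤ n - 1 by omega) ((h1 x).mp hc), rfl⟩
  have hKA : L S (n - 1) ≤ A := fun c hc => (Subgroup.zpowers_le.mpr ht.tv.kZ : Subgroup.zpowers (k : Ω) ≤ A)
    ((h.mc.last_eq hkL hk1).le hc)
  obtain ⟨u, hu, i, hi⟩ := h.mc.layer_decomp (by omega) hm3 hm2' ((h3 ⟨z, ht.mem⟩).mpr (L_anti (by omega) hz))
  rw [show n - 3 + 1 = n - 2 by omega] at hu
  obtain ⟨c, hc, j, rfl⟩ := h.mc.layer_decomp (by omega) hrm (by rwa [show n - 2 + 1 = n - 1 by omega]) hu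
  rw [show n - 2 + 1 = n - 1 by omega] at hc
  have hmp : m ^ p = 1 := h.exp m (ht.le hmA)
  have hni : ¬ (p : ℤ) ∣ i := by
    rintro ⟨d, rfl⟩
    refine hmove ?_
    rw [hi, zpow_mul, zpow_natCast, hmp, one_zpow, mul_one]
    exact hu
  have hwc : Commute m ⁅r, m⁆ := h33 _ hm3 _ (L_anti (by omega) hrm)
  have hsup : L S (n - 1) ⊔ Subgroup.zpowers m = A := by
    refine le_antisymm (sup_le hKA (Subgroup.zpowers_le.mpr hmA)) fun x hx => ?_
    obtain ⟨c', hc', i', rfl⟩ := decomp_card hKA (by rw [ht.cardA, h.mc.card_last, pow_two]) hmA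
      (fun hh => hm2 (L_anti (by omega) hh)) (le_normalizer_L (L_le hm3)) hx
    exact Subgroup.mul_mem_sup hc' ⟨i', rfl⟩
  obtain ⟨t, ht'⟩ := exists_conj_image (p := p) (K := L S (n - 1)) (R := R) (le_normalizer_L hrS)
    (le_normalizer_L (L_le hm3)) (le_normalizer_L (L_le hrm)) (by rw [hmp]; exact one_mem _)
    (by rw [commutatorElement_eq_one_iff_commute.mpr hwc]; exact one_mem _) rfl
    (by
      have h1 := comm_mem_succ hrm hrS
      rw [show n - 2 + 1 = n - 1 by omega] at h1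
      rw [← commutatorElement_inv]
      exact inv_mem h1)
    hKR (by rw [hsup, hRc, ht.cardA]) (r := σ ⟨z, ht.mem⟩) ⟨⟨z, ht.mem⟩, hz, rfl⟩ hc
    (show σ ⟨z, ht.mem⟩ = c * m ^ i * ⁅r, m⁆ ^ j by rw [hi, mul_assoc, mul_assoc, (hwc.zpow_zpow i j).eq]) hni
  rw [hsup] at ht'
  have hrt : r ^ t ∈ S := S.zpow_mem hrS t
  obtain ⟨ψ, hψ, hψr, hψe⟩ := h.exists_pull hσ (ht.le.trans h.le) h2N hrt ht'
  have hkA : (k : Ω) ∈ A := ht.tv.kZ
  obtain ⟨x, hx⟩ := h1s k hkL
  have hx1 : (x : Ω) ∈ L S (n - 1) := (h1 x).mp (hx ▸ hkL)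
  refine h.false_of_map h6 ht.tv ht.hP ht.le (h.normalizer_le_centralizer ht) hkA hψ hψr ?_
  rw [hψe ⟨k, hkA⟩ x (L_anti (by omega) hx1) (by
    rw [hx, ← h.last_central hkL hrt, mul_inv_cancel_right])]
  exact hx1

theorem false_of_not_two_le (h : Cube p n F E) (h2 : ¬ L S (n - 2) ≤ E) : False := by
  have h5 := h.mc.five
  have hp5 := h.mc.pfive
  have hpp : p.Prime := Fact.out
  haveI := h.finE
  haveI : Finite (normalizerIn S E) := finite_normalizerIn
  haveI : Finite (L S (n - 2)) := finite_of_le L_le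
  haveI : Finite (L S (n - 3)) := finite_of_le L_le
  haveI : Finite (C2s S (n - 2)) := finite_of_le C2s_le
  obtain ⟨z, hz, hzE⟩ : ∃ z ∈ L S (n - 2), z ∉ E := by
    by_contra hh
    push Not at hh
    exact h2 hh
  have hz1 : z ∉ L S (n - 1) := fun hh => hzE (h.top_le hh)
  have hzS : z ∈ S := L_le hz
  have hzc : ∀ {e : Ω}, e ∈ S → ⁅z, e⁆ ∈ L S (n - 1) := fun he => by
    have := comm_mem_succ hz he
    rwa [show n - 2 + 1 = n - 1 by omega] at this
  have hzN : z ∈ normalizerIn S E := ⟨hzS, mem_normalizer_of_comm fun e he => h.top_le (hzc (h.le he))⟩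
  obtain ⟨g₀, hg₀, hg₀'⟩ := h.mc.exists_gen (j := n - 1) (by omega) (by omega)
  rw [show n - 1 + 1 = n by omega] at hg₀'
  have hg₁ : g₀ ≠ 1 := fun e => hg₀' (e ▸ one_mem _)
  let k : E := ⟨g₀, h.top_le hg₀⟩
  have hrange : ∀ e : E, e⁻¹ * conjAut hzN.2 e ∈ Subgroup.zpowers k := fun e => by
    obtain ⟨i, hi⟩ := (h.mc.last_eq hg₀ hg₁).le (show ((e⁻¹ * conjAut hzN.2 e : E) : Ω) ∈ L S (n - 1) by
      rw [Subgroup.coe_mul, Subgroup.coe_inv, conjAut_apply,
        show (e : Ω)⁻¹ * (z * e * z⁻¹) = (e : Ω)⁻¹ * ⁅z, (e : Ω)⁆ * ((e : Ω)⁻¹)⁻¹ by rw [commutatorElement_def]; group]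
      exact conj_mem_L (hzc (h.le e.2)) (S.inv_mem (h.le e.2)))
    exact ⟨i, Subtype.ext (by rw [SubgroupClass.coe_zpow]; exact hi)⟩
  obtain ⟨htv, hP⟩ := h.tv_of_element hzN hzE (k := k) (fun e => hg₁ (congrArg Subtype.val e))
    (by rw [← (h.last_central hg₀ hzS : g₀ * z = z * g₀), mul_inv_cancel_right]) hrange
  set A := (fixed (conjAut hzN.2)).map E.subtype with hAdef
  have hAE : A ≤ E := Subgroup.map_subtype_le _
  haveI : Finite A := finite_of_le (hAE.trans h.le)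
  have hAsub : A.subgroupOf E = fixed (conjAut hzN.2) :=
    Subgroup.comap_map_eq_self_of_injective E.subtype_injective _
  have hA : Nat.card A = p ^ 2 := by
    rw [hAdef, Subgroup.card_map_of_injective E.subtype_injective]
    have h1 := (fixed (conjAut hzN.2)).card_mul_index
    rw [htv.idx, h.card, pow_succ p 2] at h1
    exact Nat.eq_of_mul_eq_mul_right hpp.pos h1
  have ht : Trans p S E A z k := ⟨hzN, hAsub.symm ▸ htv, hP, hAE, hA, hzE⟩
  have hmemA : ∀ {e : Ω}, e ∈ E → z * e * z⁻¹ = e → e ∈ A := fun {e} he hc =>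
    ⟨⟨e, he⟩, Subtype.ext hc, rfl⟩
  have hCA : ∀ {e : Ω}, e ∈ E → e ∈ C2s S (n - 2) → e ∈ A := fun {e} he hC =>
    hmemA he (by rw [h.comm_last hC hz, mul_inv_cancel_right])
  obtain ⟨e₀, he₀, he₀A⟩ : ∃ e₀ ∈ E, e₀ ∉ A := by
    by_contra hh
    push Not at hh
    have := Subgroup.card_le_of_le (show E ≤ A from hh)
    rw [h.card, hA, Nat.pow_le_pow_iff_right hpp.one_lt] at this
    omega
  have hout : ∀ {e : Ω}, e ∈ E → e ∉ A → e ∈ C2s S 2 := fun {e} he heA => by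
    by_contra hh
    have he2 : e ∉ L S 2 := fun h' => heA (hCA he (L_le_C2s le_rfl h'))
    have hcc := h.mc.card_centralizer (h.le he) he2 fun j hj hjn hjC => by
      rcases Nat.lt_or_ge (j + 2) n with hlt | hge
      · exact hh (h.mc.twoStep_eq hj (by omega) ▸ hjC)
      · exact heA (hCA he ((show j = n - 2 by omega) ▸ hjC))
    have hle : E ≤ centralizerIn S (Subgroup.zpowers e) := fun x hx => ⟨h.le hx, Subgroup.mem_centralizer_iff.mpr
      fun w hw => h.comm w ((Subgroup.zpowers_le.mpr he) hw) x hx⟩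
    haveI : Finite (centralizerIn S (Subgroup.zpowers e)) := finite_of_le FusionSystem.centralizerIn_le
    have := Subgroup.card_le_of_le hle
    rw [h.card, hcc, Nat.pow_le_pow_iff_right hpp.one_lt] at this
    omega
  have hE2 : E ≤ C2s S 2 := fun e he => by
    by_cases heA : e ∈ A
    · exact ((C2s S 2).mul_mem_cancel_right (hout he₀ he₀A)).mp
        (hout (E.mul_mem he he₀) fun hh => he₀A ((A.mul_mem_cancel_left heA).mp hh))
    · exact hout he heA
  have he₀C : e₀ ∉ C2s S (n - 2) := fun hh => he₀A (hCA he₀ hh)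
  have hne : C2s S (n - 2) ≠ C2s S 2 := fun e => he₀C (e.ge (hE2 he₀))
  have hev := Nat.even_iff.mp (h.mc.even_of_last_ne hne)
  have h6 : 6 ≤ n := by omega
  have hC3 : E ≤ C2s S (n - 3) := by rw [h.mc.twoStep_eq (k := n - 3) (by omega) (by omega)]; exact hE2
  have h3N : L S (n - 3) ≤ normalizerIn S E := fun g hg => ⟨L_le hg, mem_normalizer_of_comm fun e he => h.top_le (by
    have := comm_mem_of_C2s (hC3 he) hg
    rwa [show n - 3 + 2 = n - 1 by omega] at this)⟩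
  have hN := h.Trans_card ht
  have h3c : Nat.card (L S (n - 3)) = p ^ 3 := by
    rw [h.mc.card_L (by omega) (by omega), show n - (n - 3) = 3 by omega]
  have hNC : ∀ v ∈ normalizerIn S E, v ∈ C2s S (n - 2) → v ∈ L S (n - 3) := by
    intro v hv hvC
    by_contra hv3
    obtain ⟨x, hx, i, hxi⟩ := decomp_card h3N (by rw [hN, h3c, ← pow_succ]) hv hv3 (le_normalizer_L hv.1)
      (le_normalizerIn h.le he₀)
    exact he₀C (hxi ▸ Subgroup.mul_mem _ (L_le_C2s (by omega) hx) (Subgroup.zpow_mem _ hvC i))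
  have hAN := h.normalizer_le_centralizer ht
  have hA3 : A ≤ L S (n - 3) := fun a ha => hNC a (le_normalizerIn h.le (hAE ha)) (mem_C2s_of_comm (h.le (hAE ha))
    fun w hw => by
      obtain ⟨c, hc, i, rfl⟩ := h.mc.layer_decomp (by omega) hz (by rwa [show n - 2 + 1 = n - 1 by omega]) hw
      rw [show n - 2 + 1 = n - 1 by omega] at hc
      have h1 : Commute c a := h.last_central hc (h.le (hAE ha))
      have h2 : Commute z a := ht.comm_mem ha
      rw [commutatorElement_eq_one_iff_commute.mpr (h1.mul_left (h2.zpow_left i))]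
      exact one_mem _)
  have hE3 : E ≠ L S (n - 3) := fun e => he₀C (L_le_C2s (by omega) (e.le he₀))
  obtain ⟨y, hy4, hy3'⟩ := h.mc.exists_gen (j := n - 4) (by omega) (by omega)
  rw [show n - 4 + 1 = n - 3 by omega] at hy3'
  have hyS : y ∈ S := L_le hy4
  have hy43 : ∀ v ∈ L S (n - 3), ⁅y, v⁆ ∈ A := fun v hv => by
    have h1 := L_anti (show n - 1 ≤ n - 4 + (n - 3) by omega) (comm_mem_L hy4 hv)
    exact hmemA (h.top_le h1) (by rw [← (h.last_central h1 hzS), mul_inv_cancel_right])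
  have hyA : y ∈ Subgroup.normalizer (A : Set Ω) := mem_normalizer_of_comm fun a ha => hy43 a (hA3 ha)
  have hy2 : ⁅y, e₀⁆ ∈ L S (n - 2) := by
    have := comm_mem_of_C2s (k := n - 4) (g := e₀) (by
      rw [h.mc.twoStep_eq (k := n - 4) (by omega) (by omega)]; exact hE2 he₀) hy4
    rwa [show n - 4 + 2 = n - 2 by omega] at this
  have hw : ⁅y, e₀⁆ ∉ A := fun hh => hy3' (hNC y ⟨hyS, h.mem_normalizer_of_step hAE hA he₀ he₀A hyA hh⟩
    (L_le_C2s (by omega) hy4))
  have hA1 : L S (n - 1) ≤ A := fun c hc =>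
    hmemA (h.top_le hc) (by rw [← (h.last_central hc hzS), mul_inv_cancel_right])
  have h33 : ∀ v ∈ L S (n - 3), ∀ a ∈ A, v * a * v⁻¹ ∈ A := fun v hv a ha => by
    have h1 := comm_mem_L hv (hA3 ha)
    rw [h.mc.L_eq_bot (show n ≤ n - 3 + (n - 3) by omega), Subgroup.mem_bot] at h1
    rw [commutatorElement_eq_one_iff_mul_comm.mp h1, mul_inv_cancel_right]
    exact ha
  obtain ⟨l, -, M, hMA, hkM, hdec, htor⟩ := h.exists_sigma ht
  obtain ⟨a, b, hab, ha0, hord⟩ := exists_unit (p := p)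
  obtain ⟨σ, hσ, hσr, hσk, -, hσM, -, hσA, hσz⟩ := htor a b hab
  have h3 := h.sigma_third ht hA3 h3N hE3 he₀ he₀A hyS hyA hy43 (L_anti (by omega) hy2) hw h33
    (fun v hv => hA1 (by
      rw [← commutatorElement_inv]
      have := comm_mem_of_C2s (hC3 he₀) hv
      rw [show n - 3 + 2 = n - 1 by omega] at this
      exact inv_mem this)) hσ hσr hσA
  have hkN : g₀ ∈ normalizerIn S E := le_normalizerIn h.le k.2
  have hk' : σ ⟨g₀, hkN⟩ = g₀ ^ (a : ℤ) := hσk hkN
  haveI : Finite (L S (n - 1)) := finite_of_le L_le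
  have h1 := fun x => mem_iff_of_mapsTo (F.injective_of_mem hσ) ((L_anti (show n - 3 ≤ n - 1 by omega)).trans h3N)
    (fun v hv => mapsTo_zpowers (h.mc.last_eq hg₀ hg₁) hkN (by rw [hk']; exact Subgroup.zpow_mem _ hg₀ _) v hv) x
  have h1s : ∀ c ∈ L S (n - 1), ∃ x : normalizerIn S E, σ x = c := fun c hc =>
    hσr.ge (le_normalizerIn h.le (h.top_le hc))
  -- a fixed element outside the second centre
  obtain ⟨m, hm, hm1⟩ : ∃ m ∈ M, (m : Ω) ∉ L S (n - 1) := by
    obtain ⟨x, hx, hx'⟩ : ∃ x ∈ A, x ∉ L S (n - 1) := by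
      by_contra hh
      push Not at hh
      have := Subgroup.card_le_of_le (show A ≤ L S (n - 1) from hh)
      rw [hA, h.mc.card_last] at this
      nlinarith [hpp.two_le]
    obtain ⟨m, hm, i, hi⟩ := hdec ⟨x, hAE hx⟩ hx
    refine ⟨m, hm, fun hh => hx' ?_⟩
    have := congrArg Subtype.val hi
    rw [Subgroup.coe_mul, SubgroupClass.coe_zpow] at this
    rw [show x = (m : Ω) * (g₀ : Ω) ^ i from this]
    exact Subgroup.mul_mem _ hh (Subgroup.zpow_mem _ hg₀ i)
  have hmA : (m : Ω) ∈ A := hMA hm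
  have hA2 : ∀ x ∈ A, x ∈ L S (n - 2) → x ∈ L S (n - 1) := by
    intro x hx hx2
    by_contra hx1
    obtain ⟨c, hc, i, hi⟩ := h.mc.layer_decomp (by omega) hx2 (by rwa [show n - 2 + 1 = n - 1 by omega]) hz
    rw [show n - 2 + 1 = n - 1 by omega] at hc
    exact hzE (hi ▸ E.mul_mem (h.top_le hc) (E.zpow_mem (hAE hx) i))
  have hm2 : (m : Ω) ∉ L S (n - 2) := fun hh => hm1 (hA2 _ hmA hh)
  by_cases hmove : σ ⟨z, hzN⟩ ∈ L S (n - 2)
  swap
  · exact h.false_of_moved_third h6 ht hg₀ hg₁ hA3 h3N hmA hm2 hz hz1 hσ h3 h1 h1s hmove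
  -- the second centre is preserved
  obtain ⟨u, hu, J, hJ⟩ := decomp_card hA3 (by rw [hA, h3c, ← pow_succ]) (L_anti (by omega) hz)
    (fun hh => hzE (hAE hh)) (mem_normalizer_of_comm fun x hx => by
      rw [commutatorElement_eq_one_iff_mul_comm.mpr (ht.comm_mem hx)]; exact one_mem _)
    ((h3 ⟨z, hzN⟩).mpr (L_anti (by omega) hz))
  have hu1 : u ∈ L S (n - 1) := hA2 u hu (by
    have h' := (L S (n - 2)).mul_mem hmove ((L S (n - 2)).inv_mem ((L S (n - 2)).zpow_mem hz J))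
    rwa [hJ, mul_inv_cancel_right] at h')
  have hJb := hσz u J hzN hu hJ
  have hJ2 : (p : ℤ) ∣ J - ((a * a : ℕ) : ℤ) := by
    have e : J - ((a * a : ℕ) : ℤ) = -J * ((a : ℤ) * b - 1) + (a : ℤ) * (J * b - a) := by push_cast; ring
    rw [e]
    exact dvd_add (dvd_mul_of_dvd_right hab _) (dvd_mul_of_dvd_right hJb _)
  have hh2 : ∀ x : normalizerIn S E, (x : Ω) ∈ L S (n - 2) → σ x ∈ L S (n - 2) := by
    intro x hx
    obtain ⟨c, hc, i, hi⟩ := h.mc.layer_decomp (by omega) hz (by rwa [show n - 2 + 1 = n - 1 by omega]) hx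
    rw [show n - 2 + 1 = n - 1 by omega] at hc
    have hcN : c ∈ normalizerIn S E := le_normalizerIn h.le (h.top_le hc)
    rw [show x = (⟨c, hcN⟩ : normalizerIn S E) * ⟨z, hzN⟩ ^ i from Subtype.ext (by
      rw [Subgroup.coe_mul, SubgroupClass.coe_zpow]; exact hi), map_mul, map_zpow]
    exact Subgroup.mul_mem _ (L_anti (by omega) ((h1 _).mpr hc)) (Subgroup.zpow_mem _ hmove i)
  obtain ⟨α, hα⟩ := h.exists_alpha h3N hσ h3 hh2 fun x hx => (h1 x).mpr hx
  have hfil : ∀ {j : ℕ} {x : Ω} (hxS : x ∈ S), x ∉ L S j → (⟨x, hxS⟩ : S) ∉ CfsgLib.PolySeq.fil S j :=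
    fun hxS hx hh => hx (mem_L.mpr hh)
  obtain ⟨q, r, e1, e2, e3⟩ := CfsgLib.MaxClassDegree.weights_ne h.mc.three h.mc.card h.mc.cls h6
    (fun e => hne (by rw [C2s, C2s, e])) α (j₁ := a) (j₂ := a * a) (j₃ := 1)
    (mem_L.mp (show ((⟨g₀, L_le hg₀⟩ : S) : Ω) ∈ L S (n - 1) from hg₀))
    (hfil _ (fun hh => hg₁ (by rwa [h.mc.L_eq_bot le_rfl, Subgroup.mem_bot] at hh)))
    (h.weight h3N hα (k := n - 1) (by omega) (by omega) (L_le hg₀) hg₀ (one_mem _) (J := (a : ℤ)) (by simp)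
      (fun hx' => by rw [one_mul]; exact hk'))
    (mem_L.mp (show ((⟨z, hzS⟩ : S) : Ω) ∈ L S (n - 2) from hz)) (hfil _ hz1)
    (h.weight h3N hα (k := n - 2) (by omega) (by omega) hzS hz hu1 hJ2 (fun hx' => hJ))
    (mem_L.mp (show ((⟨m, h.le m.2⟩ : S) : Ω) ∈ L S (n - 3) from hA3 hmA)) (hfil _ hm2)
    (h.weight h3N hα (k := n - 3) le_rfl (by omega) (h.le m.2) (hA3 hmA) (one_mem _) (J := (1 : ℤ)) (by simp)
      (fun hx' => by rw [one_mul, zpow_one, hσM m hm]))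
  push_cast at e1 e2 e3
  rw [one_mul] at e1
  have har : (a : ZMod p) * r = 1 := mul_left_cancel₀ ha0 (by linear_combination -e2)
  have hqa : (a : ZMod p) ^ (2 * (n - 4)) = a := by
    rw [pow_mul, show (a : ZMod p) ^ 2 = q by rw [← e1]; ring]
    linear_combination (-(a : ZMod p)) * e3 - (q ^ (n - 4)) * har
  have hpow : (a : ZMod p) ^ (2 * n - 9) = 1 := mul_right_cancel₀ ha0 (by
    rw [one_mul, ← pow_succ, show 2 * n - 9 + 1 = 2 * (n - 4) by omega, hqa])
  obtain ⟨d, hd'⟩ := hpp.odd_of_ne_two (show p ≠ 2 by omega)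
  have h2d : 2 ∣ 2 * n - 9 := dvd_trans ⟨d, by omega⟩ (hord _ hpow)
  omega

end Cube

end Cfsg.MaxClassCube
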