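import Cfsg.Agent.Lib.MaxClassDegree.Weights
import Cfsg.Prelude.Def_FusionSystem
import Cfsg.Agent.Lib.Fusion.Basic

/-!
The layers and two-step centralizers of a group of maximal class, inside an ambient group.
-/

set_option autoImplicit false
set_option linter.unusedSectionVars false

namespace Cfsg.MaxClassCube

open scoped commutatorElement
open CfsgLib.PolySeq (fil fil_antitone fil_commutator_mem fil_normal)
open CfsgLib.MaxClassGood (twoStep mem_twoStep)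
open FusionSystem

variable {Ω : Type*} [Group Ω] {S : Subgroup Ω} [Finite S] {p : ℕ} [Fact p.Prime] {n : ℕ}

/-- `S` has maximal class and order `p ^ n`, `n ≥ 5`, `p ≥ 5`. -/
structure MC (S : Subgroup Ω) (p n : ℕ) : Prop where
  card : Nat.card S = p ^ n
  cls : Group.nilpotencyClass S = n - 1
  five : 5 ≤ n
  pfive : 5 ≤ p

/-- The layers. -/
def L (S : Subgroup Ω) (j : ℕ) : Subgroup Ω := (fil S j).map S.subtype

/-- The two-step centralizers. -/
def C2s (S : Subgroup Ω) (j : ℕ) : Subgroup Ω := (twoStep S j).map S.subtype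

theorem L_le {j : ℕ} : L S j ≤ S := Subgroup.map_subtype_le _

theorem C2s_le {j : ℕ} : C2s S j ≤ S := Subgroup.map_subtype_le _

theorem mem_L {j : ℕ} {x : S} : (x : Ω) ∈ L S j ↔ x ∈ fil S j := Subgroup.mem_map_iff_mem S.subtype_injective

theorem mem_C2s {j : ℕ} {x : S} : (x : Ω) ∈ C2s S j ↔ x ∈ twoStep S j :=
  Subgroup.mem_map_iff_mem S.subtype_injective

theorem L_one {j : ℕ} (hj : j ≤ 1) : L S j = S := by
  rw [L, show fil S j = ⊤ by rw [CfsgLib.PolySeq.fil, Nat.sub_eq_zero_of_le hj]; rfl, ← MonoidHom.range_eq_map,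
    Subgroup.range_subtype]

theorem L_anti {i j : ℕ} (h : i ≤ j) : L S j ≤ L S i := Subgroup.map_mono (fil_antitone h)

theorem comm_mem_L {i j : ℕ} {a b : Ω} (ha : a ∈ L S i) (hb : b ∈ L S j) : ⁅a, b⁆ ∈ L S (i + j) := by
  obtain ⟨a, ha, rfl⟩ := ha
  obtain ⟨b, hb, rfl⟩ := hb
  exact ⟨⁅a, b⁆, fil_commutator_mem ha hb, map_commutatorElement _ a b⟩

theorem comm_mem_succ {j : ℕ} {a s : Ω} (ha : a ∈ L S j) (hs : s ∈ S) : ⁅a, s⁆ ∈ L S (j + 1) :=
  comm_mem_L ha (by rw [L_one le_rfl]; exact hs)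

theorem conj_mem_L {j : ℕ} {a s : Ω} (ha : a ∈ L S j) (hs : s ∈ S) : s * a * s⁻¹ ∈ L S j := by
  obtain ⟨a, ha, rfl⟩ := ha
  exact ⟨⟨s, hs⟩ * a * ⟨s, hs⟩⁻¹, (fil_normal j).conj_mem a ha _, rfl⟩

theorem le_normalizer_L {j : ℕ} : S ≤ Subgroup.normalizer (L S j : Set Ω) := fun s hs => by
  refine Subgroup.mem_normalizer_iff.mpr fun x => ⟨fun h => conj_mem_L h hs, fun h => ?_⟩
  have := conj_mem_L h (S.inv_mem hs)
  rwa [inv_inv, mul_assoc s, inv_mul_cancel_left, inv_mul_cancel_right] at this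

theorem comm_mem_of_C2s {k : ℕ} {w g : Ω} (hg : g ∈ C2s S k) (hw : w ∈ L S k) : ⁅w, g⁆ ∈ L S (k + 2) := by
  obtain ⟨g, hg, rfl⟩ := hg
  obtain ⟨w, hw, rfl⟩ := hw
  exact ⟨⁅w, g⁆, mem_twoStep.mp hg w hw, map_commutatorElement _ w g⟩

theorem mem_C2s_of_comm {k : ℕ} {g : Ω} (hg : g ∈ S) (h : ∀ w ∈ L S k, ⁅w, g⁆ ∈ L S (k + 2)) : g ∈ C2s S k := by
  refine (mem_C2s (x := ⟨g, hg⟩)).mpr (mem_twoStep.mpr fun w hw => mem_L.mp ?_)
  have := h w (mem_L.mpr hw)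
  rwa [show (((⁅w, ⟨g, hg⟩⁆ : S)) : Ω) = ⁅(w : Ω), g⁆ from map_commutatorElement S.subtype w ⟨g, hg⟩]

theorem L_le_C2s {j k : ℕ} (hj : 2 ≤ j) : L S j ≤ C2s S k :=
  (L_anti hj).trans (Subgroup.map_mono (CfsgLib.MaxClassGood.fil_le_twoStep k))

namespace MC

variable (h : MC S p n)

theorem three (h : MC S p n) : 3 ≤ n := le_trans (by norm_num) h.five

include h

theorem L_eq_bot {j : ℕ} (hj : n ≤ j) : L S j = ⊥ := by
  rw [L, CfsgLib.MaxClassRank.fil_eq_bot h.three h.card h.cls hj, Subgroup.map_bot]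

theorem card_L {j : ℕ} (h2 : 2 ≤ j) (hj : j ≤ n) : Nat.card (L S j) = p ^ (n - j) := by
  rw [L, Subgroup.card_map_of_injective S.subtype_injective, CfsgLib.MaxClassRank.card_fil h.three h.card h.cls h2 hj]

theorem card_C2s {k : ℕ} (h2 : 2 ≤ k) (hk : k + 2 ≤ n) : Nat.card (C2s S k) = p ^ (n - 1) := by
  have h1 := (twoStep S k).card_mul_index
  rw [CfsgLib.MaxClassGood.twoStep_index h.three h.card h.cls h2 hk, h.card,
    show p ^ n = p ^ (n - 1) * p by rw [← pow_succ]; congr 1; have := h.five; omega] at h1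
  rw [C2s, Subgroup.card_map_of_injective S.subtype_injective]
  exact Nat.eq_of_mul_eq_mul_right (Fact.out : p.Prime).pos h1

theorem exists_gen {j : ℕ} (h2 : 2 ≤ j) (hj : j < n) : ∃ z ∈ L S j, z ∉ L S (j + 1) := by
  obtain ⟨z, hz, hz'⟩ := CfsgLib.MaxClassGood.exists_gen h.three h.card h.cls hj h2
  exact ⟨z, mem_L.mpr hz, fun e => hz' (mem_L.mp e)⟩

theorem layer_pow {j : ℕ} (h2 : 2 ≤ j) {z x : Ω} (hz : z ∈ L S j) (hz' : z ∉ L S (j + 1)) (hx : x ∈ L S j) :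
    ∃ i : ℤ, (z ^ i)⁻¹ * x ∈ L S (j + 1) := by
  obtain ⟨z, hzf, rfl⟩ := hz
  obtain ⟨x, hxf, rfl⟩ := hx
  haveI : (fil S (j + 1)).Normal := fil_normal _
  have hx2 : x ∈ Subgroup.zpowers z ⊔ fil S (j + 1) := by
    rw [CfsgLib.MaxClassRank.fil_layer h.three h.card h.cls h2 hzf (fun e => hz' ⟨z, e, rfl⟩)]
    exact hxf
  obtain ⟨_, ⟨i, rfl⟩, w, hw, e⟩ := Subgroup.mem_sup_of_normal_right.mp hx2
  refine ⟨i, w, hw, ?_⟩
  rw [← e]
  simp

theorem twoStep_eq {k : ℕ} (h2 : 2 ≤ k) (hk : k + 3 ≤ n) : C2s S k = C2s S 2 := by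
  rw [C2s, C2s, CfsgLib.MaxClassDegree.twoStep_eq h.three h.card h.cls h2 hk]

theorem even_of_last_ne (hne : C2s S (n - 2) ≠ C2s S 2) : Even n :=
  CfsgLib.MaxClassDegree.even_of_last_ne h.three h.card h.cls h.five fun e => hne (by rw [C2s, C2s, e])

theorem card_centralizer {x : Ω} (hx : x ∈ S) (h2 : x ∉ L S 2)
    (hC : ∀ k, 2 ≤ k → k + 2 ≤ n → x ∉ C2s S k) : Nat.card (centralizerIn S (Subgroup.zpowers x)) = p ^ 2 := by
  have hg := CfsgLib.MaxClassGood.good_of_outside h.three h.card h.cls (x := (⟨x, hx⟩ : S))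
    (fun e => h2 (mem_L.mpr e)) fun k h1 h2 e => hC k h1 h2 (mem_C2s.mpr e)
  rw [← hg]
  refine Nat.card_congr
    { toFun := fun y => ⟨⟨y.1, y.2.1⟩, Subgroup.mem_centralizer_singleton_iff.mpr (Subtype.ext
        (Subgroup.mem_centralizer_iff.mp y.2.2 x (Subgroup.mem_zpowers x)).symm)⟩
      invFun := fun y => ⟨y.1.1, y.1.2, Subgroup.mem_centralizer_iff.mpr fun w hw => ?_⟩
      left_inv := fun _ => rfl
      right_inv := fun _ => rfl }
  obtain ⟨i, rfl⟩ := hw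
  have hc : Commute x (y.1 : Ω) := (congrArg Subtype.val (Subgroup.mem_centralizer_singleton_iff.mp y.2)).symm
  exact hc.zpow_left i

end MC

end Cfsg.MaxClassCube
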