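import Cfsg.Agent.Lib.Fusion.MaxClassCube.Torus

/-!
Small facts for the two positions of the second centre.
-/

set_option autoImplicit false
set_option linter.unusedSectionVars false

namespace Cfsg.MaxClassCube

open scoped commutatorElement
open FusionSystem

variable {Ω : Type*} [Group Ω] {S : Subgroup Ω} [Finite S] {p : ℕ} [Fact p.Prime] {n : ℕ}
  {F : FusionSystem S} {E : Subgroup Ω}

/-- An element of multiplicative order `p - 1` modulo `p`, with an inverse. -/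
theorem exists_unit : ∃ a b : ℕ, (p : ℤ) ∣ (a : ℤ) * (b : ℤ) - 1 ∧ (a : ZMod p) ≠ 0 ∧
    ∀ m : ℕ, (a : ZMod p) ^ m = 1 → p - 1 ∣ m := by
  haveI : NeZero p := ⟨(Fact.out : p.Prime).ne_zero⟩
  obtain ⟨u, hu⟩ := IsCyclic.exists_ofOrder_eq_natCard (α := (ZMod p)ˣ)
  refine ⟨(u : ZMod p).val, ((u⁻¹ : (ZMod p)ˣ) : ZMod p).val, ?_, ?_, fun m hm => ?_⟩
  · rw [← ZMod.intCast_zmod_eq_zero_iff_dvd]
    push_cast
    rw [ZMod.natCast_zmod_val, ZMod.natCast_zmod_val, mul_inv_cancel₀ u.ne_zero, sub_self]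
  · rw [ZMod.natCast_zmod_val]
    exact u.ne_zero
  · rw [ZMod.natCast_zmod_val, ← Units.val_pow_eq_pow_val, Units.val_eq_one] at hm
    rw [Nat.card_eq_fintype_card, ZMod.card_units] at hu
    exact hu ▸ orderOf_dvd_of_pow_eq_one hm

/-- A map sending a generator into its group preserves that group. -/
theorem mapsTo_zpowers {M Q : Subgroup Ω} {σ : M →* Ω} {x : Ω} (hQ : Q = Subgroup.zpowers x) (hxM : x ∈ M)
    (hx : σ ⟨x, hxM⟩ ∈ Q) (v : M) (hv : (v : Ω) ∈ Q) : σ v ∈ Q := by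
  obtain ⟨i, hi⟩ := hQ.le hv
  have e : v = (⟨x, hxM⟩ : M) ^ i := Subtype.ext (by rw [SubgroupClass.coe_zpow]; exact hi.symm)
  rw [e, map_zpow]
  exact Q.zpow_mem hx i

theorem Trans.comm_mem {A : Subgroup Ω} {z : Ω} {k : E} (ht : Trans p S E A z k) {a : Ω} (ha : a ∈ A) :
    z * a = a * z := by
  have h1 := congrArg Subtype.val ((ht.tv.fix ⟨a, ht.le ha⟩).mpr ha)
  exact mul_inv_eq_iff_eq_mul.mp h1

namespace MC

theorem card_last (h : MC S p n) : Nat.card (L S (n - 1)) = p := by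
  have := h.five
  rw [h.card_L (by omega) (by omega), show n - (n - 1) = 1 by omega, pow_one]

theorem last_eq (h : MC S p n) {x : Ω} (hx : x ∈ L S (n - 1)) (hx1 : x ≠ 1) :
    L S (n - 1) = Subgroup.zpowers x := by
  haveI : Finite (L S (n - 1)) := finite_of_le L_le
  refine (Subgroup.eq_of_le_of_card_ge (Subgroup.zpowers_le.mpr hx) ?_).symm
  rw [h.card_last, Nat.card_zpowers]
  have hd : orderOf x ∣ p := by
    have := orderOf_dvd_natCard (⟨x, hx⟩ : L S (n - 1))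
    rwa [h.card_last, ← Subgroup.orderOf_coe] at this
  rcases (Nat.dvd_prime Fact.out).mp hd with e | e
  · exact absurd (orderOf_eq_one_iff.mp e) hx1
  · exact e.ge

theorem layer_decomp (h : MC S p n) {j : ℕ} (h2 : 2 ≤ j) {z x : Ω} (hz : z ∈ L S j)
    (hz' : z ∉ L S (j + 1)) (hx : x ∈ L S j) : ∃ c ∈ L S (j + 1), ∃ i : ℤ, x = c * z ^ i := by
  obtain ⟨i, hi⟩ := h.layer_pow h2 hz hz' hx
  refine ⟨x * (z ^ i)⁻¹, ?_, i, by rw [inv_mul_cancel_right]⟩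
  rw [show x * (z ^ i)⁻¹ = z ^ i * ((z ^ i)⁻¹ * x) * (z ^ i)⁻¹ by group]
  exact conj_mem_L hi (S.zpow_mem (L_le hz) i)

theorem C2s_ne (h : MC S p n) {k : ℕ} (h2 : 2 ≤ k) (hk : k + 2 ≤ n) : ∃ s ∈ S, s ∉ C2s S k := by
  by_contra hh
  push Not at hh
  haveI : Finite (C2s S k) := finite_of_le C2s_le
  have := Subgroup.card_le_of_le (show S ≤ C2s S k from hh)
  rw [h.card, h.card_C2s h2 hk, Nat.pow_le_pow_iff_right (Fact.out : p.Prime).one_lt] at this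
  have := h.five
  omega

end MC

namespace Cube

theorem norm_self (h : Cube p n F E) {A : Subgroup Ω} (hAE : A ≤ E) {e : Ω} (he : e ∈ E) :
    e ∈ Subgroup.normalizer (A : Set Ω) := by
  haveI : Finite A := finite_of_le (hAE.trans h.le)
  refine mem_normalizer_of_comm fun a ha => ?_
  rw [commutatorElement_eq_one_iff_mul_comm.mpr (h.comm e he a (hAE ha))]
  exact A.one_mem

theorem decomp (h : Cube p n F E) {A : Subgroup Ω} (hAE : A ≤ E) (hA : Nat.card A = p ^ 2) {e₀ x : Ω}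
    (he₀ : e₀ ∈ E) (he₀A : e₀ ∉ A) (hx : x ∈ E) : ∃ a ∈ A, ∃ i : ℤ, x = a * e₀ ^ i := by
  haveI := h.finE
  exact decomp_card hAE (by rw [h.card, hA, ← pow_succ]) he₀ he₀A (h.norm_self hAE he₀) hx

theorem mem_normalizer_of_step (h : Cube p n F E) {A : Subgroup Ω} (hAE : A ≤ E) (hA : Nat.card A = p ^ 2)
    {e₀ y : Ω} (he₀ : e₀ ∈ E) (he₀A : e₀ ∉ A) (hy : y ∈ Subgroup.normalizer (A : Set Ω)) (hc : ⁅y, e₀⁆ ∈ A) :
    y ∈ Subgroup.normalizer (E : Set Ω) := by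
  haveI := h.finE
  refine mem_normalizer_of_comm fun x hx => ?_
  obtain ⟨a, ha, i, rfl⟩ := h.decomp hAE hA he₀ he₀A hx
  have h1 : y * e₀ * y⁻¹ ∈ E := by
    rw [show y * e₀ * y⁻¹ = ⁅y, e₀⁆ * e₀ by rw [commutatorElement_def]; group]
    exact E.mul_mem (hAE hc) he₀
  rw [commutatorElement_def, show y * (a * e₀ ^ i) * y⁻¹ = y * a * y⁻¹ * (y * e₀ * y⁻¹) ^ i by
    rw [conj_zpow]; group]
  exact E.mul_mem (E.mul_mem (hAE ((Subgroup.mem_normalizer_iff.mp hy a).mp ha)) (E.zpow_mem h1 i)) (E.inv_mem hx)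

theorem normalizer_le_centralizer (h : Cube p n F E) {A : Subgroup Ω} {z : Ω} {k : E} (ht : Trans p S E A z k) :
    normalizerIn S E ≤ centralizerIn S A := by
  haveI : Finite (normalizerIn S E) := finite_normalizerIn
  intro v hv
  obtain ⟨e, he, i, rfl⟩ := decomp_card (le_normalizerIn h.le) (by rw [h.Trans_card ht, h.card, ← pow_succ])
    ht.mem ht.not_mem ht.mem.2 hv
  refine ⟨hv.1, Subgroup.mem_centralizer_iff.mpr fun a ha => ?_⟩
  have h1 : Commute a e := h.comm a (ht.le ha) e he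
  have h2 : Commute a z := (ht.comm_mem ha).symm
  exact (h1.mul_right (h2.zpow_right i))

/-- The composite of a conjugation with the inverse of a map. -/
theorem exists_pull (h : Cube p n F E) {σ : normalizerIn S E →* Ω} (hσ : σ ∈ F.Hom (normalizerIn S E))
    {A B : Subgroup Ω} (hAS : A ≤ S) (hBN : B ≤ normalizerIn S E) {g : Ω} (hg : g ∈ S)
    (hmap : A.map (MulAut.conj g).toMonoidHom = (B.subgroupOf (normalizerIn S E)).map σ) :
    ∃ ψ ∈ F.Hom A, ψ.range = B ∧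
      ∀ (a : A) (x : normalizerIn S E), (x : Ω) ∈ B → σ x = g * a * g⁻¹ → ψ a = x := by
  have hres := F.restrict_mem hσ hBN
  obtain ⟨τ, hτ, hτr, hτ1, -⟩ := F.exists_inv hres (Q := (B.subgroupOf (normalizerIn S E)).map σ) (by
    rw [MonoidHom.range_comp, Subgroup.inclusion_range])
  have hin : ∀ a : A, conjHom A g a ∈ (B.subgroupOf (normalizerIn S E)).map σ := fun a => by
    rw [← hmap, conjHom_apply]
    exact ⟨a, a.2, rfl⟩
  obtain ⟨ψ, hψ, hψe⟩ := F.exists_comp (F.conj_mem hAS hg) hτ hin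
  have key : ∀ (a : A) (x : normalizerIn S E), (x : Ω) ∈ B → σ x = g * a * g⁻¹ → ψ a = x := by
    intro a x hx he
    have h2 := hτ1 ⟨x, hx⟩ ⟨x, hx, rfl⟩
    rw [hψe, ← h2]
    congr 1
    refine Subtype.ext ?_
    show g * (a : Ω) * g⁻¹ = _
    exact he.symm
  refine ⟨ψ, hψ, le_antisymm ?_ fun b hb => ?_, key⟩
  · rintro _ ⟨a, rfl⟩
    rw [hψe]
    exact hτr.le ⟨_, rfl⟩
  · have hm : σ ⟨b, hBN hb⟩ ∈ A.map (MulAut.conj g).toMonoidHom := by
      rw [hmap]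
      exact ⟨⟨b, hBN hb⟩, hb, rfl⟩
    obtain ⟨a, ha, e⟩ := hm
    exact ⟨⟨a, ha⟩, key ⟨a, ha⟩ ⟨b, hBN hb⟩ hb e.symm⟩

/-- The input of the weight relations. -/
theorem weight (h : Cube p n F E) (h3N : L S (n - 3) ≤ normalizerIn S E) {σ : normalizerIn S E →* Ω} {α : MulAut S}
    (hα : ∀ (x : S) (hx : (x : Ω) ∈ L S (n - 3)), ((α x : S) : Ω) = σ ⟨x, h3N hx⟩) {k k' : ℕ} (hk : n - 3 ≤ k)
    (hk' : k + 1 = k') {x : Ω} (hxS : x ∈ S) (hx : x ∈ L S k) {u : Ω} (hu : u ∈ L S k') {J : ℤ} {j : ℕ}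
    (hJ : (p : ℤ) ∣ J - j) (he : ∀ hx', σ ⟨x, hx'⟩ = u * x ^ J) :
    ((⟨x, hxS⟩ : S) ^ j)⁻¹ * α ⟨x, hxS⟩ ∈ CfsgLib.PolySeq.fil S k' := by
  subst hk'
  have := h.mc.five
  exact h.weight_input (by omega) hx hu hJ ((hα ⟨x, hxS⟩ (L_anti hk hx)).trans (he _))

end Cube

end Cfsg.MaxClassCube
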