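import Cfsg.Agent.Lib.Fusion.MaxClassCube.CaseA
import Cfsg.Agent.Lib.Fusion.MaxClassCube.CaseB
import Cfsg.Agent.Lib.Fusion.EssentialSmall.Cube
import Cfsg.Agent.Lib.Fusion.EssentialSmall.SLTwo

/-!
An essential subgroup that is not a pearl, in a group of maximal class, has order at least `p ^ 4`.
-/

set_option autoImplicit false
set_option linter.unusedSectionVars false

namespace Cfsg.MaxClassCube

open FusionSystem EssentialSmall

variable {Ω : Type*} [Group Ω] {S : Subgroup Ω} [Finite S] {p : ℕ} [Fact p.Prime] {n : ℕ}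
  {F : FusionSystem S} {E : Subgroup Ω}

theorem not_cube (h : Cube p n F E) : False := by
  by_cases h2 : L S (n - 2) ≤ E
  · exact h.false_of_two_le h2
  · exact h.false_of_not_two_le h2

theorem not_small (hS : IsPGroup p S) (hn : Nat.card S = p ^ n) (hn2 : 2 ≤ n) (hE : F.IsEssential p E) :
    ¬ Nat.card E ≤ p := by
  intro hc
  have hpp : p.Prime := Fact.out
  haveI : Finite E := finite_of_le hE.1.1
  haveI : Nontrivial S := Finite.one_lt_card_iff_nontrivial.mp (hn ▸ Nat.one_lt_pow (by omega) hpp.one_lt)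
  haveI := hS.center_nontrivial
  have hZE : (Subgroup.center S).map S.subtype ≤ E := by
    rintro _ ⟨z, hz, rfl⟩
    exact hE.1.centralizerIn_le_self ⟨z.2, Subgroup.mem_centralizer_iff.mpr fun e he =>
      congrArg Subtype.val (Subgroup.mem_center_iff.mp hz ⟨e, hE.1.1 he⟩)⟩
  obtain ⟨j, hj⟩ := IsPGroup.iff_card.mp (hS.to_subgroup (Subgroup.center S))
  have h1 : p ≤ Nat.card (Subgroup.center S) := by
    have := Finite.one_lt_card (α := Subgroup.center S)
    rw [hj] at this ⊢
    exact Nat.le_self_pow (fun e => by rw [e, pow_zero] at this; exact lt_irrefl _ this) p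
  have heq := Subgroup.eq_of_le_of_card_ge hZE
    (by rw [Subgroup.card_map_of_injective S.subtype_injective]; exact hc.trans h1)
  have hSE : S ≤ E := fun s hs => hE.1.centralizerIn_le_self ⟨hs, Subgroup.mem_centralizer_iff.mpr fun e he => by
    obtain ⟨z, hz, rfl⟩ := heq.ge he
    exact (congrArg Subtype.val (Subgroup.mem_center_iff.mp hz ⟨s, hs⟩)).symm⟩
  have := (Subgroup.card_le_of_le hSE).trans hc
  rw [hn] at this
  nth_rw 2 [← pow_one p] at this
  rw [Nat.pow_le_pow_iff_right hpp.one_lt] at this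
  omega

/-- The power map of a commutative group. -/
def powHom (p : ℕ) {G : Type*} [Group G] (hab : ∀ a b : G, a * b = b * a) : G →* G where
  toFun := fun y => y ^ p
  map_one' := one_pow p
  map_mul' := fun a b => (show Commute a b from hab a b).mul_pow p

theorem elementary_cube (hS : IsPGroup p S) (hF : F.IsSaturated p) (hE : F.IsEssential p E)
    (hcard : Nat.card E = p ^ 3) (hab : ∀ a b : E, a * b = b * a) (x : E) : x ^ p = 1 := by
  have hpp : p.Prime := Fact.out
  haveI : Finite E := finite_of_le hE.1.1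
  by_contra hx
  set A := agemo p E hab with hAdef
  obtain ⟨i, hi, hidx⟩ := (Nat.dvd_prime_pow hpp).mp (hcard ▸ A.index_dvd_card)
  have hnd := not_dvd_index_agemo hS hF hE hab
  have hi2 : i = 2 := by
    rcases (show i ≤ 1 ∨ i = 2 ∨ i = 3 by omega) with h | h | h
    · exact absurd (hidx ▸ (pow_dvd_pow p h).trans (by rw [pow_one])) hnd
    · exact h
    · exfalso
      have hc := A.card_mul_index
      rw [hidx, h, hcard] at hc
      have hA1 : Nat.card A = 1 := Nat.eq_of_mul_eq_mul_right (pow_pos hpp.pos 3) (hc.trans (one_mul _).symm)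
      have := pow_mem_agemo (hab := hab) (p := p) x
      rw [← hAdef, Subgroup.eq_bot_of_card_eq _ hA1, Subgroup.mem_bot] at this
      exact hx this
  rw [hi2] at hidx
  have hA : Nat.card A = p := by
    have hc := A.card_mul_index
    rw [hidx, hcard, show p ^ 3 = p * p ^ 2 by ring] at hc
    exact Nat.eq_of_mul_eq_mul_right (pow_pos hpp.pos 2) hc
  let f : E →* E := powHom p hab
  have hrange : f.range = A := by
    ext y
    exact Iff.rfl
  have hker : Nat.card f.ker = p ^ 2 := by
    have hc := f.ker.card_mul_index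
    rw [Subgroup.index_ker, hrange, hA, hcard, pow_succ p 2] at hc
    exact Nat.eq_of_mul_eq_mul_right hpp.pos hc
  have hAk : A ≤ f.ker := by
    intro y hy
    have h1 : (⟨y, hy⟩ : A) ^ Nat.card A = 1 := pow_card_eq_one'
    rw [hA] at h1
    exact congrArg Subtype.val h1
  refine false_of_mid hS hF hE hab hAk (fun α _ y hy => ?_) ?_ ?_
  · show (α y) ^ p = 1
    rw [← map_pow, show y ^ p = 1 from hy, map_one]
  · have hc : Nat.card A * A.relIndex f.ker = Nat.card f.ker := by
      rw [← Nat.card_congr (Subgroup.subgroupOfEquivOfLe hAk).toEquiv, Subgroup.relIndex, Subgroup.card_mul_index]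
    rw [hA, hker, pow_two] at hc
    rw [Nat.eq_of_mul_eq_mul_left hpp.pos hc]
  · rw [Subgroup.index_ker, hrange, hA]

theorem four_le_card (hS : IsPGroup p S) (hn : Nat.card S = p ^ n) (h5 : 5 ≤ n) (hp : 5 ≤ p)
    (hcls : Group.nilpotencyClass S = n - 1) (hF : F.IsSaturated p) (hE : F.IsEssential p E)
    (hnp : ¬ ((Nat.card E = p ^ 2 ∧ Cfsg.IsElementaryAbelian p E) ∨
      (Nat.card E = p ^ 3 ∧ Cfsg.IsExtraspecial p E ∧ Monoid.exponent E = p))) :
    p ^ 4 ≤ Nat.card E := by
  have hpp : p.Prime := Fact.out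
  haveI : Finite E := finite_of_le hE.1.1
  obtain ⟨i, hi⟩ := IsPGroup.iff_card.mp (hS.to_le hE.1.1)
  by_contra hlt
  rw [hi, not_le, Nat.pow_lt_pow_iff_right hpp.one_lt] at hlt
  rcases (show i ≤ 1 ∨ i = 2 ∨ i = 3 by omega) with h | rfl | rfl
  · refine not_small hS hn (by omega) hE ?_
    rw [hi]
    exact (Nat.pow_le_pow_right hpp.pos h).trans (pow_one p).le
  · obtain ⟨hab, hexp⟩ := elementary_of_card_sq hS hF hE hi
    exact hnp (Or.inl ⟨hi, ⟨⟨fun a b => hab a b⟩⟩, fun a ha => congrArg Subtype.val (hexp ⟨a, ha⟩)⟩)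
  by_cases hab : ∀ a b : E, a * b = b * a
  · exact not_cube ⟨⟨hn, hcls, h5, hp⟩, hS, hF, hE, hi, fun a ha b hb => congrArg Subtype.val (hab ⟨a, ha⟩ ⟨b, hb⟩),
      fun a ha => congrArg Subtype.val (elementary_cube hS hF hE hi hab ⟨a, ha⟩)⟩
  refine hnp (Or.inr ⟨hi, (extraspecial_cube hi hab).1, ?_⟩)
  have hd : Monoid.exponent E ∣ p :=
    Monoid.exponent_dvd_of_forall_pow_eq_one (exponent_cube hS hF hE hi hab (by omega))
  refine ((Nat.dvd_prime hpp).mp hd).resolve_left fun h1 => hab fun a b => ?_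
  have ha := Monoid.pow_exponent_eq_one a
  have hb := Monoid.pow_exponent_eq_one b
  rw [h1, pow_one] at ha hb
  rw [ha, hb]

end Cfsg.MaxClassCube
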