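import Cfsg.Agent.Lib.Fusion.MaxClassCube.Setup

/-!
Elementary lemmas on the moves of an essential subgroup inside a group of maximal class.
-/

set_option autoImplicit false
set_option linter.unusedSectionVars false

namespace Cfsg.MaxClassCube

open scoped commutatorElement
open FusionSystem

variable {Ω : Type*} [Group Ω] {S : Subgroup Ω} [Finite S] {p : ℕ} [Fact p.Prime] {n : ℕ}
  {F : FusionSystem S} {E : Subgroup Ω}

/-- A subgroup of index `p` and one further element. -/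
theorem decomp_card {A U : Subgroup Ω} [Finite U] {x : Ω} (hAU : A ≤ U) (hc : Nat.card U = Nat.card A * p)
    (hx : x ∈ U) (hxA : x ∉ A) (hn : x ∈ Subgroup.normalizer (A : Set Ω)) {u : Ω} (hu : u ∈ U) :
    ∃ a ∈ A, ∃ i : ℤ, u = a * x ^ i := by
  have hpp : p.Prime := Fact.out
  set J := A ⊔ Subgroup.zpowers x with hJ
  have hJU : J ≤ U := sup_le hAU (Subgroup.zpowers_le.mpr hx)
  haveI : Finite J := Finite.of_injective _ (Subgroup.inclusion_injective hJU)
  have hd : Nat.card A ∣ Nat.card J := Subgroup.card_dvd_of_le le_sup_left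
  have hd' : Nat.card J ∣ Nat.card A * p := hc ▸ Subgroup.card_dvd_of_le hJU
  obtain ⟨d, hdd⟩ := hd
  haveI : Finite A := Finite.of_injective _ (Subgroup.inclusion_injective hAU)
  have hJe : J = U := by
    refine Subgroup.eq_of_le_of_card_ge hJU ?_
    rw [hdd] at hd'
    rcases (Nat.dvd_prime hpp).mp (Nat.dvd_of_mul_dvd_mul_left Nat.card_pos hd') with e | e
    · exfalso
      rw [e, mul_one] at hdd
      exact hxA ((Subgroup.eq_of_le_of_card_ge (le_sup_left : A ≤ J) hdd.le).ge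
        (Subgroup.mem_sup_right (Subgroup.mem_zpowers x)))
    · rw [hc, hdd, e]
  have hm : u ∈ ((A ⊔ Subgroup.zpowers x : Subgroup Ω) : Set Ω) := hJe.ge hu
  rw [Subgroup.coe_mul_of_right_le_normalizer_left _ _ (Subgroup.zpowers_le.mpr hn)] at hm
  obtain ⟨a, ha, _, ⟨i, rfl⟩, rfl⟩ := hm
  exact ⟨a, ha, i, rfl⟩

/-- Conjugation by powers of `y` reaches every complement to `w` over `K`. -/
theorem exists_conj_image {K R : Subgroup Ω} [Finite R] {y e₀ w : Ω}
    (hyK : y ∈ Subgroup.normalizer (K : Set Ω)) (heK : e₀ ∈ Subgroup.normalizer (K : Set Ω))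
    (hwK : w ∈ Subgroup.normalizer (K : Set Ω)) (hep : e₀ ^ p ∈ K) (hcomm : ⁅e₀, w⁆ ∈ K)
    (hye : ⁅y, e₀⁆ = w) (hyw : ⁅y, w⁆ ∈ K) (hKR : K ≤ R) (hR : Nat.card R = Nat.card ↥(K ⊔ Subgroup.zpowers e₀))
    {r : Ω} (hr : r ∈ R) {i j : ℤ} {a : Ω} (ha : a ∈ K) (hrv : r = a * e₀ ^ i * w ^ j) (hi : ¬ (p : ℤ) ∣ i) :
    ∃ t : ℤ, (K ⊔ Subgroup.zpowers e₀).map (MulAut.conj (y ^ t)).toMonoidHom = R := by
  set M := Subgroup.normalizer (K : Set Ω) with hM
  haveI : (K.subgroupOf M).Normal := Subgroup.normal_in_normalizer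
  set q : M →* M ⧸ K.subgroupOf M := QuotientGroup.mk' _ with hq
  have hqK : ∀ {x : Ω} (hx : x ∈ M), q ⟨x, hx⟩ = 1 ↔ x ∈ K := fun hx => (QuotientGroup.eq_one_iff _).trans
    Subgroup.mem_subgroupOf
  let Y : M := ⟨y, hyK⟩
  let e : M := ⟨e₀, heK⟩
  let W : M := ⟨w, hwK⟩
  have hc : Commute (q e) (q W) := by
    refine commutatorElement_eq_one_iff_commute.mp ?_
    rw [← map_commutatorElement]
    exact (hqK (⁅e, W⁆).2).mpr hcomm
  have hYW : Commute (q Y) (q W) := by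
    refine commutatorElement_eq_one_iff_commute.mp ?_
    rw [← map_commutatorElement]
    exact (hqK (⁅Y, W⁆).2).mpr hyw
  have hYe : q Y * q e * (q Y)⁻¹ = q W * q e := by
    rw [← map_inv, ← map_mul, ← map_mul, ← map_mul]
    congr 1
    refine Subtype.ext ?_
    show y * e₀ * y⁻¹ = w * e₀
    rw [← hye, commutatorElement_def]
    group
  have hpow : ∀ t : ℤ, q Y ^ t * q e * (q Y ^ t)⁻¹ = q W ^ t * q e := by
    intro t
    induction t using Int.induction_on with
    | zero => simp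
    | succ m ih =>
      rw [show (m : ℤ) + 1 = 1 + m by ring, zpow_add, zpow_add, zpow_one, zpow_one, mul_inv_rev,
        show q Y * q Y ^ (m : ℤ) * q e * ((q Y ^ (m : ℤ))⁻¹ * (q Y)⁻¹) =
          q Y * (q Y ^ (m : ℤ) * q e * (q Y ^ (m : ℤ))⁻¹) * (q Y)⁻¹ by group, ih,
        show q Y * (q W ^ (m : ℤ) * q e) * (q Y)⁻¹ = (q Y * q W ^ (m : ℤ) * (q Y)⁻¹) * (q Y * q e * (q Y)⁻¹) by group,
        hYe, (hYW.zpow_right _).eq, mul_inv_cancel_right, ← mul_assoc, (Commute.refl (q W)).zpow_left _ |>.eq]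
    | pred m ih =>
      have h1 : q Y * (q W ^ (-(m : ℤ) - 1) * q e) * (q Y)⁻¹ = q W ^ (-(m : ℤ)) * q e := by
        rw [show q Y * (q W ^ (-(m : ℤ) - 1) * q e) * (q Y)⁻¹ =
            (q Y * q W ^ (-(m : ℤ) - 1) * (q Y)⁻¹) * (q Y * q e * (q Y)⁻¹) by group, hYe,
          (hYW.zpow_right _).eq, mul_inv_cancel_right, ← mul_assoc, ← zpow_add_one,
          show -(m : ℤ) - 1 + 1 = -(m : ℤ) by ring]
      rw [← ih] at h1
      have h2 : q W ^ (-(m : ℤ) - 1) * q e =
          (q Y)⁻¹ * (q Y * (q W ^ (-(m : ℤ) - 1) * q e) * (q Y)⁻¹) * q Y := by group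
      rw [h2, h1, zpow_sub_one]
      group
  obtain ⟨u, v, huv⟩ : IsCoprime i (p : ℤ) :=
    ((Nat.prime_iff_prime_int.mp Fact.out).coprime_iff_not_dvd.mpr hi).symm
  refine ⟨j * u, ?_⟩
  have hrM : r ∈ M := hrv ▸ mul_mem (mul_mem (Subgroup.le_normalizer ha) (zpow_mem heK i)) (zpow_mem hwK j)
  have hqp : q e ^ (p : ℤ) = 1 := by
    rw [zpow_natCast, ← map_pow]
    exact (hqK (e ^ p).2).mpr hep
  have hr0 : q ⟨r, hrM⟩ ^ u = q W ^ (j * u) * q e := by
    have h1 : q ⟨r, hrM⟩ = q e ^ i * q W ^ j := by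
      rw [show (⟨r, hrM⟩ : M) = ⟨a, Subgroup.le_normalizer ha⟩ * e ^ i * W ^ j from Subtype.ext (by
        simp only [Subgroup.coe_mul, SubgroupClass.coe_zpow]; exact hrv),
        map_mul, map_mul, (hqK (Subgroup.le_normalizer ha)).mpr ha, one_mul, map_zpow, map_zpow]
    rw [h1, (hc.zpow_zpow i j).mul_zpow, ← zpow_mul, ← zpow_mul]
    have h2 : q e ^ (i * u) = q e := by
      calc q e ^ (i * u) = q e ^ (i * u) * (q e ^ (p : ℤ)) ^ v := by rw [hqp, one_zpow, mul_one]
        _ = q e := by rw [← zpow_mul, ← zpow_add, show i * u + (p : ℤ) * v = u * i + v * p by ring, huv, zpow_one]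
    rw [h2, (hc.zpow_right _).eq]
  have hmem : y ^ (j * u) * e₀ * (y ^ (j * u))⁻¹ ∈ R := by
    have h3 : q (⟨r, hrM⟩ ^ u)⁻¹ * q (Y ^ (j * u) * e * (Y ^ (j * u))⁻¹) = 1 := by
      rw [map_inv, map_zpow, hr0, map_mul, map_mul, map_inv, map_zpow, hpow, inv_mul_cancel]
    rw [← map_mul] at h3
    have h4 := (hqK ((⟨r, hrM⟩ ^ u : M)⁻¹ * (Y ^ (j * u) * e * (Y ^ (j * u))⁻¹)).2).mp h3
    have h5 := R.mul_mem (R.zpow_mem hr u) (hKR h4)
    simpa [SubgroupClass.coe_zpow, Y, e] using h5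
  refine Subgroup.eq_of_le_of_card_ge ?_ ?_
  · rw [Subgroup.map_le_iff_le_comap, sup_le_iff]
    refine ⟨fun x hx => hKR ?_, Subgroup.zpowers_le.mpr hmem⟩
    exact (Subgroup.mem_normalizer_iff.mp (M.zpow_mem hyK (j * u)) x).mp hx
  · rw [hR, Subgroup.card_map_of_injective (MulEquiv.injective _)]

namespace Cube

theorem top_le (h : Cube p n F E) : L S (n - 1) ≤ E := fun x hx => by
  refine h.centralizerIn_le ⟨L_le hx, Subgroup.mem_centralizer_iff.mpr fun e he => ?_⟩
  have h1 := comm_mem_succ hx (h.le he)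
  rw [show n - 1 + 1 = n by have := h.mc.five; omega, h.mc.L_eq_bot le_rfl, Subgroup.mem_bot] at h1
  exact (commutatorElement_eq_one_iff_mul_comm.mp h1).symm

theorem comm_last (h : Cube p n F E) {w g : Ω} (hg : g ∈ C2s S (n - 2)) (hw : w ∈ L S (n - 2)) : w * g = g * w := by
  have h1 := comm_mem_of_C2s hg hw
  rw [show n - 2 + 2 = n by have := h.mc.five; omega, h.mc.L_eq_bot le_rfl, Subgroup.mem_bot] at h1
  exact commutatorElement_eq_one_iff_mul_comm.mp h1

theorem last_central (h : Cube p n F E) {w g : Ω} (hw : w ∈ L S (n - 1)) (hg : g ∈ S) : w * g = g * w := by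
  have h1 := comm_mem_succ hw hg
  rw [show n - 1 + 1 = n by have := h.mc.five; omega, h.mc.L_eq_bot le_rfl, Subgroup.mem_bot] at h1
  exact commutatorElement_eq_one_iff_mul_comm.mp h1

theorem conj_map (h : Cube p n F E) {g : Ω} (hg : g ∈ S) :
    F.IsConj E (E.map (MulAut.conj g).toMonoidHom) := by
  refine ⟨conjHom E g, F.conj_mem h.le hg, ?_⟩
  rw [conjHom, MonoidHom.range_eq_map, ← Subgroup.map_map, ← MonoidHom.range_eq_map, Subgroup.range_subtype]

theorem mem_normalizer_of_comm {Q : Subgroup Ω} [Finite Q] {g : Ω} (hg : ∀ q ∈ Q, ⁅g, q⁆ ∈ Q) :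
    g ∈ Subgroup.normalizer (Q : Set Ω) := by
  have hsub : Q.map (MulAut.conj g).toMonoidHom ≤ Q := by
    rintro _ ⟨q, hq, rfl⟩
    show g * q * g⁻¹ ∈ Q
    rw [show g * q * g⁻¹ = ⁅g, q⁆ * q by rw [commutatorElement_def]; group]
    exact Q.mul_mem (hg q hq) hq
  have heq := Subgroup.eq_of_le_of_card_ge hsub (ge_of_eq (Subgroup.card_map_of_injective (MulEquiv.injective _)))
  refine Subgroup.mem_normalizer_iff.mpr fun x => ⟨fun hx => hsub ⟨x, hx, rfl⟩, fun hx => ?_⟩
  obtain ⟨q, hq, e⟩ := heq.ge hx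
  have : q = x := mul_left_cancel (mul_right_cancel e)
  exact this ▸ hq

/-- A conjugate inside the first two-step centralizer cannot contain the second centre. -/
theorem false_of_le_C2s (h : Cube p n F E) (h6 : 6 ≤ n) (hN : Nat.card (normalizerIn S E) = p ^ 4) {Q : Subgroup Ω}
    (hQ : F.IsConj E Q) (hQC : Q ≤ C2s S 2) (h2 : L S (n - 2) ≤ Q) : False := by
  obtain ⟨hQS, -, -, hQn⟩ := h.conj_facts hQ
  haveI : Finite Q := finite_of_le hQS
  haveI : Finite (normalizerIn S Q) := finite_normalizerIn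
  have hC := h.mc.twoStep_eq (k := n - 4) (by omega) (by omega)
  have hle : L S (n - 4) ≤ normalizerIn S Q := fun g hg => ⟨L_le hg, mem_normalizer_of_comm fun q hq => h2 (by
    have := comm_mem_of_C2s (hC.ge (hQC hq)) hg
    rwa [show n - 4 + 2 = n - 2 by omega] at this)⟩
  have heq : L S (n - 4) = normalizerIn S Q := Subgroup.eq_of_le_of_card_ge hle (by
    rw [h.mc.card_L (by omega) (by omega), show n - (n - 4) = 4 by omega]
    exact hQn.trans hN.le)
  have hQL : Q ≤ L S (n - 4) := heq ▸ le_normalizerIn hQS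
  have hle2 : C2s S 2 ≤ normalizerIn S Q := fun g hg => ⟨C2s_le hg, mem_normalizer_of_comm fun q hq => h2 (by
    have := comm_mem_of_C2s (hC.ge hg) (hQL hq)
    rw [show n - 4 + 2 = n - 2 by omega] at this
    rw [← commutatorElement_inv]
    exact (L S (n - 2)).inv_mem this)⟩
  have := (Subgroup.card_le_of_le hle2).trans (hQn.trans hN.le)
  rw [h.mc.card_C2s le_rfl (by omega), Nat.pow_le_pow_iff_right (Fact.out : p.Prime).one_lt] at this
  omega

/-- A map of a subgroup of `E` onto the second centre, central on the normalizer, sending the centre of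
the transvection to the centre. -/
theorem false_of_map (h : Cube p n F E) (h6 : 6 ≤ n) {c : MulAut E} {Z : Subgroup E} {k : E}
    (hc : Tv p c Z k) (hcP : c ∈ autInducedBy S E) {A : Subgroup Ω} (hAE : A ≤ E)
    (hAN : normalizerIn S E ≤ centralizerIn S A) (hk : (k : Ω) ∈ A)
    {g : A →* Ω} (hg : g ∈ F.Hom A) (hgr : g.range = L S (n - 2)) (hgk : g ⟨k, hk⟩ ∈ L S (n - 1)) : False := by
  have hN := h.card_normalizer hc hcP
  haveI := h.finE
  have hQn : F.IsFullyNormalized (L S (n - 2)) := isFullyNormalized_of_normalized L_le le_normalizer_L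
  obtain ⟨ψ, hψ, hψe⟩ := (h.sat.isReceptive_of_isFullyNormalized h.pg hQn).2 A g hg hgr
  have hdom : normalizerIn S E ≤ extender S A g := hAN.trans (centralizerIn_le_extender (F.apply_mem hg))
  have hEN : E ≤ normalizerIn S E := le_normalizerIn h.le
  let ψN : normalizerIn S E →* Ω := ψ.comp (Subgroup.inclusion hdom)
  have hψN : ψN ∈ F.Hom (normalizerIn S E) := F.restrict_mem hψ hdom
  let φ : E →* Ω := ψN.comp (Subgroup.inclusion hEN)
  have hφ : φ ∈ F.Hom E := F.restrict_mem hψN hEN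
  have hQ : F.IsConj E φ.range := ⟨φ, hφ, rfl⟩
  obtain ⟨hQS, hQc, -, hQnorm⟩ := h.conj_facts hQ
  haveI : Finite φ.range := finite_of_le hQS
  haveI : Finite (normalizerIn S φ.range) := finite_normalizerIn
  have h2 : L S (n - 2) ≤ φ.range := by
    intro x hx
    rw [← hgr] at hx
    obtain ⟨a, rfl⟩ := hx
    exact ⟨⟨a, hAE a.2⟩, hψe a a.2 _⟩
  have hrange : ψN.range ≤ normalizerIn S φ.range := by
    rintro _ ⟨v, rfl⟩
    exact mapsTo_normalizerIn hψN hEN le_rfl (fun _ => rfl) rfl v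
  have heq : ψN.range = normalizerIn S φ.range := Subgroup.eq_of_le_of_card_ge hrange (by
    rw [← Nat.card_congr (MonoidHom.ofInjective (F.injective_of_mem hψN)).toEquiv]
    exact hQnorm)
  refine h.false_of_le_C2s h6 hN hQ ?_ h2
  intro q hq
  rw [← h.mc.twoStep_eq (k := n - 3) (by omega) (by omega)]
  refine mem_C2s_of_comm (hQS hq) fun w hw => ?_
  rw [show n - 3 + 2 = n - 1 by omega]
  have hwN : w ∈ normalizerIn S φ.range := ⟨L_le hw, mem_normalizer_of_comm fun x hx => h2 (by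
    have := comm_mem_succ hw (hQS hx)
    rwa [show n - 3 + 1 = n - 2 by omega] at this)⟩
  rw [← heq] at hwN
  obtain ⟨v, rfl⟩ := hwN
  obtain ⟨e, rfl⟩ := hq
  show ⁅ψN v, ψN (Subgroup.inclusion hEN e)⁆ ∈ _
  rw [← map_commutatorElement]
  obtain ⟨i, hi⟩ := h.range_comm hc hcP v.2 e.2
  have hke : ⁅v, Subgroup.inclusion hEN e⁆ = (Subgroup.inclusion hEN k) ^ (-i) := by
    refine Subtype.ext ?_
    show ⁅(v : Ω), (e : Ω)⁆ = ((_ : normalizerIn S E) : Ω)
    rw [SubgroupClass.coe_zpow, ← commutatorElement_inv, ← show (k : Ω) ^ i = ⁅(e : Ω), (v : Ω)⁆ from hi, zpow_neg]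
    rfl
  rw [hke, map_zpow]
  refine (L S (n - 1)).zpow_mem ?_ _
  show ψ ⟨k, _⟩ ∈ _
  have h := hψe k hk (hdom (hEN k.2))
  exact h.symm ▸ hgk

end Cube

end Cfsg.MaxClassCube
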