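import Cfsg.Agent.Lib.Fusion.SmallCentre.Transvection
import Cfsg.Agent.Lib.Fusion.EssentialSmall.Basic

/-!
Automorphism groups of an elementary abelian group of order `p ^ 3` with a strongly `p`-embedded
subgroup and a transvection.
-/

set_option autoImplicit false
set_option linter.unusedSectionVars false

namespace Cfsg.MaxClassCube

open Cfsg.SmallCentre

variable {E : Type*} [Group E] [Finite E] {p : ℕ} [Fact p.Prime]

/-- A nontrivial automorphism centralizing `Z` of index `p` and moving elements within `⟨k⟩`, `k ∈ Z`. -/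
structure Tv (p : ℕ) (r : MulAut E) (Z : Subgroup E) (k : E) : Prop where
  fix : ∀ e, r e = e ↔ e ∈ Z
  range : ∀ e, e⁻¹ * r e ∈ Subgroup.zpowers k
  kZ : k ∈ Z
  korder : orderOf k = p
  idx : Z.index = p

/-- The fixed points of an automorphism. -/
def fixed (r : MulAut E) : Subgroup E where
  carrier := {e | r e = e}
  one_mem' := map_one r
  mul_mem' := fun {a b} ha hb => by
    show r (a * b) = a * b
    rw [map_mul, show r a = a from ha, show r b = b from hb]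
  inv_mem' := fun {a} ha => by
    show r a⁻¹ = a⁻¹
    rw [map_inv, show r a = a from ha]

theorem Tv.ne_one {r : MulAut E} {Z : Subgroup E} {k : E} (h : Tv p r Z k) : r ≠ 1 := by
  rintro rfl
  have e : Z = ⊤ := (Subgroup.eq_top_iff' Z).mpr fun x => (h.fix x).mp rfl
  have := h.idx
  rw [e, Subgroup.index_top] at this
  exact (Fact.out : p.Prime).one_lt.ne this

theorem tv_of_range (comm : ∀ a b : E, a * b = b * a) {r : MulAut E} {k : E} (hk : orderOf k = p)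
    (hr : r ≠ 1) (hrk : r k = k) (hrange : ∀ e, e⁻¹ * r e ∈ Subgroup.zpowers k) :
    Tv p r (fixed r) k := by
  refine ⟨fun _ => Iff.rfl, hrange, hrk, hk, ?_⟩
  let δ : E →* Subgroup.zpowers k :=
    { toFun := fun e => ⟨e⁻¹ * r e, hrange e⟩
      map_one' := Subtype.ext (by simp)
      map_mul' := fun a b => Subtype.ext (by
        show (a * b)⁻¹ * r (a * b) = a⁻¹ * r a * (b⁻¹ * r b)
        rw [map_mul, mul_inv_rev, mul_assoc, ← mul_assoc a⁻¹, comm b⁻¹, mul_assoc, comm (r b)]) }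
  have hker : δ.ker = fixed r := by
    ext e
    rw [MonoidHom.mem_ker, Subtype.ext_iff]
    show e⁻¹ * r e = 1 ↔ r e = e
    rw [inv_mul_eq_one, eq_comm]
  have hd : Nat.card δ.range ∣ p := hk ▸ Nat.card_zpowers k ▸ Subgroup.card_subgroup_dvd_card _
  rw [← hker, Subgroup.index_ker]
  refine ((Nat.dvd_prime (Fact.out : p.Prime)).mp hd).resolve_left fun h1 => hr ?_
  refine MulEquiv.ext fun e => ?_
  have hm : δ e ∈ δ.range := ⟨e, rfl⟩
  rw [Subgroup.eq_bot_of_card_eq _ h1, Subgroup.mem_bot] at hm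
  exact (inv_mul_eq_one.mp (congrArg Subtype.val hm)).symm

theorem Tv.conj {r : MulAut E} {Z : Subgroup E} {k : E} (h : Tv p r Z k) (ψ : MulAut E) :
    Tv p (ψ * r * ψ⁻¹) (Z.map ψ.toMonoidHom) (ψ k) := by
  refine ⟨fun e => ?_, fun e => ?_, ⟨k, h.kZ, rfl⟩, ?_, ?_⟩
  · show ψ (r (ψ⁻¹ e)) = e ↔ _
    constructor
    · intro he
      refine ⟨ψ⁻¹ e, (h.fix _).mp ?_, MulAut.apply_inv_self _ _ _⟩
      conv_rhs => rw [← he, MulAut.inv_apply_self]
    · rintro ⟨z, hz, rfl⟩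
      show ψ (r (ψ⁻¹ (ψ z))) = ψ z
      rw [MulAut.inv_apply_self, (h.fix z).mpr hz]
  · obtain ⟨i, hi⟩ := h.range (ψ⁻¹ e)
    refine ⟨i, ?_⟩
    show ψ k ^ i = e⁻¹ * ψ (r (ψ⁻¹ e))
    rw [← map_zpow, show k ^ i = _ from hi, map_mul, map_inv, MulAut.apply_inv_self]
  · exact (orderOf_injective ψ.toMonoidHom ψ.injective k).trans h.korder
  · rw [Subgroup.index_map_of_bijective ψ.bijective, h.idx]

theorem Tv.decomp (comm : ∀ a b : E, a * b = b * a) {r : MulAut E} {Z : Subgroup E} {k : E} (h : Tv p r Z k)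
    {x : E} (hx : x ∉ Z) (e : E) : ∃ y ∈ Z, ∃ i : ℤ, e = y * x ^ i := by
  haveI : Z.Normal := ⟨fun n hn g => by rw [comm g n, mul_inv_cancel_right]; exact hn⟩
  have hlt : Z < Z ⊔ Subgroup.zpowers x := lt_of_le_of_ne le_sup_left fun e' =>
    hx (e'.ge (Subgroup.mem_sup_right (Subgroup.mem_zpowers x)))
  have htop : Z ⊔ Subgroup.zpowers x = ⊤ := by
    rw [← Subgroup.index_eq_one]
    refine ((Nat.dvd_prime (Fact.out : p.Prime)).mp (h.idx ▸ Subgroup.index_dvd_of_le hlt.le)).resolve_right fun hp => ?_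
    have := Subgroup.index_strictAnti hlt
    rw [h.idx, hp] at this
    exact lt_irrefl _ this
  obtain ⟨y, hy, _, ⟨i, rfl⟩, he⟩ := Subgroup.mem_sup_of_normal_left.mp (show e ∈ Z ⊔ Subgroup.zpowers x by
    rw [htop]; trivial)
  exact ⟨y, hy, i, he.symm⟩

theorem Tv.zpow_apply {r : MulAut E} {Z : Subgroup E} {k : E} (h : Tv p r Z k) {e : E} {i : ℤ}
    (he : r e = e * k ^ i) (j : ℤ) : (r ^ j) e = e * k ^ (i * j) := by
  have hrk : r k = k := (h.fix k).mpr h.kZ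
  induction j using Int.induction_on with
  | zero => simp
  | succ n ih =>
    rw [add_comm (n : ℤ), zpow_add, zpow_one, MulAut.mul_apply, ih, map_mul, map_zpow, he, hrk, mul_assoc,
      ← zpow_add]
    congr 2
    ring
  | pred n ih =>
    refine r.injective ?_
    rw [← MulAut.mul_apply, mul_self_zpow, show -(n : ℤ) - 1 + 1 = -(n : ℤ) by ring, ih, map_mul, map_zpow, he,
      hrk, mul_assoc, ← zpow_add]
    congr 2
    ring

/-- Some power of a transvection moves a given element outside the axis by a given amount. -/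
theorem Tv.exists_power {r : MulAut E} {Z : Subgroup E} {k : E} (h : Tv p r Z k) {e : E} (he : e ∉ Z) (a : ℤ) :
    ∃ j : ℤ, (r ^ j) e = e * k ^ a := by
  obtain ⟨i, hi⟩ := h.range e
  have hre : r e = e * k ^ i := by rw [show k ^ i = _ from hi, mul_inv_cancel_left]
  have hnd : ¬ (p : ℤ) ∣ i := fun hd => he ((h.fix e).mp (by
    rw [hre, show k ^ i = 1 by rw [← h.korder] at hd; exact orderOf_dvd_iff_zpow_eq_one.mp hd, mul_one]))
  obtain ⟨s, t, hst⟩ : IsCoprime i (p : ℤ) :=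
    ((Nat.prime_iff_prime_int.mp Fact.out).coprime_iff_not_dvd.mpr hnd).symm
  refine ⟨s * a, ?_⟩
  rw [h.zpow_apply hre]
  have hk1 : k ^ (p : ℤ) = 1 := by rw [zpow_natCast, ← h.korder, pow_orderOf_eq_one]
  congr 1
  calc k ^ (i * (s * a)) = k ^ (i * (s * a)) * (k ^ (p : ℤ)) ^ (a * t) := by rw [hk1, one_zpow, mul_one]
    _ = k ^ (a * (s * i + t * p)) := by rw [← zpow_mul, ← zpow_add]; congr 1; ring
    _ = k ^ a := by rw [hst, mul_one]

theorem Tv.mem_stab {r : MulAut E} {Z : Subgroup E} {k : E} (h : Tv p r Z k) {L W : Subgroup E} (hle : L ≤ W)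
    (hL : L ≤ Z) (hW : k ∈ W) (hLW : k ∈ L ∨ W ≤ Z) : r ∈ stab L W hle := by
  refine ⟨fun x hx => (h.fix x).mpr (hL hx), fun x hx => ?_, fun x => (Subgroup.zpowers_le.mpr hW) (h.range x)⟩
  rcases hLW with hk | hWZ
  · exact (Subgroup.zpowers_le.mpr hk) (h.range x)
  · rw [(h.fix x).mpr (hWZ hx), inv_mul_cancel]
    exact L.one_mem

/-- The data: `Y` is strongly `p`-embedded in `X`, containing the Sylow group `P`. -/
structure Hyp (p : ℕ) (X Y P : Subgroup (MulAut E)) : Prop where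
  pg : IsPGroup p E
  comm : ∀ a b : E, a * b = b * a
  card : Nat.card E = p ^ 3
  YX : Y ≤ X
  proper : ∃ φ ∈ X, φ ∉ Y
  PY : P ≤ Y
  Pp : IsPGroup p P
  sylow : ∀ U : Subgroup (MulAut E), U ≤ X → IsPGroup p U → Nat.card U ≤ Nat.card P
  link : ∀ U : Subgroup (MulAut E), U ≤ X → IsPGroup p U → ∀ u ∈ U, u ≠ 1 → u ∈ Y → U ≤ Y
  move : ∀ u ∈ P, u ≠ 1 → ∀ g ∈ X, g * u * g⁻¹ ∈ Y → g ∈ Y

variable {X Y P : Subgroup (MulAut E)} {c : MulAut E} {Z : Subgroup E} {k : E}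

/-- Two transvections with one centre on the other axis are linked. -/
theorem Hyp.mem_of_linked (h : Hyp p X Y P) {r s : MulAut E} {A B : Subgroup E} {a b : E}
    (hr : Tv p r A a) (hs : Tv p s B b) (hrX : r ∈ X) (hsX : s ∈ X) (hrY : r ∈ Y) (hl : a ∈ B ∨ b ∈ A) :
    s ∈ Y := by
  rcases hl with hl | hl
  · have hle : Subgroup.zpowers a ≤ B := Subgroup.zpowers_le.mpr hl
    exact h.link (X ⊓ stab _ _ hle) inf_le_left ((isPGroup_stab h.pg hle).to_le inf_le_right) r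
      ⟨hrX, hr.mem_stab hle (Subgroup.zpowers_le.mpr hr.kZ) hl (Or.inl (Subgroup.mem_zpowers a))⟩ hr.ne_one hrY
      ⟨hsX, hs.mem_stab hle hle hs.kZ (Or.inr le_rfl)⟩
  · have hle : Subgroup.zpowers b ≤ A := Subgroup.zpowers_le.mpr hl
    exact h.link (X ⊓ stab _ _ hle) inf_le_left ((isPGroup_stab h.pg hle).to_le inf_le_right) r
      ⟨hrX, hr.mem_stab hle hle hr.kZ (Or.inr le_rfl)⟩ hr.ne_one hrY
      ⟨hsX, hs.mem_stab hle (Subgroup.zpowers_le.mpr hs.kZ) hl (Or.inl (Subgroup.mem_zpowers b))⟩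

theorem Hyp.conj_not_mem (h : Hyp p X Y P) (hc : Tv p c Z k) (hcP : c ∈ P) {ψ : MulAut E} (hψ : ψ ∈ X)
    (hψY : ψ ∉ Y) : ψ * c * ψ⁻¹ ∉ Y := fun hm => hψY (h.move c hcP hc.ne_one ψ hψ hm)

/-- Centres inside avoid the axes outside, and conversely. -/
theorem Hyp.avoid (h : Hyp p X Y P) (hc : Tv p c Z k) (hcP : c ∈ P) {r : MulAut E} {A : Subgroup E} {a : E}
    (hr : Tv p r A a) (hrY : r ∈ Y) {ψ : MulAut E} (hψ : ψ ∈ X) (hψY : ψ ∉ Y) :
    ψ k ∉ A ∧ a ∉ Z.map ψ.toMonoidHom :=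
  have key : ¬ (a ∈ Z.map ψ.toMonoidHom ∨ ψ k ∈ A) := fun hl =>
    h.conj_not_mem hc hcP hψ hψY (h.mem_of_linked hr (hc.conj ψ) (h.YX hrY)
      (X.mul_mem (X.mul_mem hψ (h.YX (h.PY hcP))) (X.inv_mem hψ)) hrY hl)
  ⟨fun h1 => key (Or.inr h1), fun h1 => key (Or.inl h1)⟩

theorem Hyp.zpow_mem (h : Hyp p X Y P) (hcP : c ∈ P) {φ : MulAut E} (hφ : φ ∈ X) (hφY : φ ∉ Y) (j : ℤ) :
    c ^ j * φ ∈ X ∧ c ^ j * φ ∉ Y :=
  ⟨X.mul_mem (X.zpow_mem (h.YX (h.PY hcP)) j) hφ, fun hm =>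
    hφY ((Y.mul_mem_cancel_left (Y.zpow_mem (h.PY hcP) j)).mp hm)⟩

/-- A transvection inside `Y` is a power of the given one. -/
theorem Hyp.unique (h : Hyp p X Y P) (hc : Tv p c Z k) (hcP : c ∈ P) {r : MulAut E} {A : Subgroup E} {a : E}
    (hr : Tv p r A a) (hrY : r ∈ Y) : r ∈ Subgroup.zpowers c := by
  obtain ⟨φ, hφ, hφY⟩ := h.proper
  have hcY := h.PY hcP
  obtain ⟨hl, hk⟩ := h.avoid hc hcP hc hcY hφ hφY
  have hkA : k ∈ A := by
    by_contra hkA
    obtain ⟨y, hy, i, he⟩ := hr.decomp h.comm hkA (φ k)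
    obtain ⟨j, hj⟩ := hc.exists_power hl (-i)
    obtain ⟨hψ, hψY⟩ := h.zpow_mem hcP hφ hφY j
    refine (h.avoid hc hcP hr hrY hψ hψY).1 ?_
    show (c ^ j) (φ k) ∈ A
    rw [hj, he, mul_assoc, ← zpow_add, add_neg_cancel, zpow_zero, mul_one]
    exact hy
  have haZ : a ∈ Z := by
    by_contra haZ
    obtain ⟨y, hy, i, he⟩ := (hc.conj φ).decomp h.comm hk a
    obtain ⟨j, hj⟩ := hc.exists_power haZ (-i)
    obtain ⟨hψ, hψY⟩ := h.zpow_mem hcP hφ hφY (-j)
    refine (h.avoid hc hcP hr hrY hψ hψY).2 ?_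
    obtain ⟨x, hx, hxy⟩ := hy
    refine ⟨x, hx, ?_⟩
    show (c ^ (-j)) (φ x) = a
    refine (c ^ j).injective ?_
    rw [← MulAut.mul_apply, ← zpow_add, add_neg_cancel, zpow_zero, MulAut.one_apply, hj]
    have hxy' : φ x = y := hxy
    rw [hxy', he, mul_assoc, ← zpow_add, add_neg_cancel, zpow_zero, mul_one]
  have hrk : r k = k := (hr.fix k).mpr hkA
  by_cases hak : a ∈ Subgroup.zpowers k
  · have hrange : ∀ e, e⁻¹ * r e ∈ Subgroup.zpowers k := fun e => (Subgroup.zpowers_le.mpr hak) (hr.range e)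
    obtain ⟨i, hi⟩ := hrange (φ k)
    obtain ⟨j, hj⟩ := hc.exists_power hl (-i)
    set u := c ^ j * r with hu
    by_contra hne
    have hcj : c ^ j ∈ Y := Y.zpow_mem hcY j
    have hu1 : u ≠ 1 := fun e => hne ⟨-j, by
      show c ^ (-j) = r
      rw [zpow_neg]
      exact inv_eq_of_mul_eq_one_right e⟩
    have hck : ∀ n : ℤ, (c ^ n) k = k := fun n => by
      rw [hc.zpow_apply (i := 0) (by rw [zpow_zero, mul_one]; exact (hc.fix k).mpr hc.kZ) n, zero_mul, zpow_zero,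
        mul_one]
    have hur : ∀ e, e⁻¹ * u e ∈ Subgroup.zpowers k := fun e => by
      obtain ⟨s, hs⟩ := hrange e
      have hre : r e = e * k ^ s := by rw [show k ^ s = _ from hs, mul_inv_cancel_left]
      obtain ⟨t, ht⟩ := hc.range e
      show e⁻¹ * (c ^ j) (r e) ∈ _
      rw [hre, map_mul, map_zpow, hck, hc.zpow_apply (show c e = e * k ^ t by
        rw [show k ^ t = _ from ht, mul_inv_cancel_left]) j, mul_assoc, inv_mul_cancel_left, ← zpow_add]
      exact ⟨_, rfl⟩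
    have hut : Tv p u (fixed u) k := tv_of_range h.comm hc.korder hu1 (by
      show (c ^ j) (r k) = k
      rw [hrk, hck]) hur
    refine (h.avoid hc hcP hut (Y.mul_mem hcj hrY) hφ hφY).1 ?_
    show (c ^ j) (r (φ k)) = φ k
    rw [show r (φ k) = φ k * k ^ i by rw [show k ^ i = _ from hi, mul_inv_cancel_left], map_mul, map_zpow, hck, hj,
      mul_assoc, ← zpow_add, neg_add_cancel, zpow_zero, mul_one]
  · exfalso
    have hS : Subgroup.zpowers k ⊔ Subgroup.zpowers a ≤ Z ⊓ A :=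
      sup_le (Subgroup.zpowers_le.mpr ⟨hc.kZ, hkA⟩) (Subgroup.zpowers_le.mpr ⟨haZ, hr.kZ⟩)
    have hcardS : p ^ 2 ≤ Nat.card ↥(Subgroup.zpowers k ⊔ Subgroup.zpowers a) := by
      obtain ⟨n, hn⟩ := IsPGroup.iff_card.mp (h.pg.to_subgroup (Subgroup.zpowers k ⊔ Subgroup.zpowers a))
      rw [hn]
      refine Nat.pow_le_pow_right (Fact.out : p.Prime).pos ?_
      by_contra hn2
      have hle := Nat.pow_le_pow_right (Fact.out : p.Prime).pos (show n ≤ 1 by omega)
      rw [← hn, pow_one] at hle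
      refine hak ((Subgroup.eq_of_le_of_card_ge (le_sup_left : Subgroup.zpowers k ≤ _ ⊔ Subgroup.zpowers a) ?_).ge
        (Subgroup.mem_sup_right (Subgroup.mem_zpowers a)))
      rw [Nat.card_zpowers, hc.korder]
      exact hle
    have hcardof : ∀ W : Subgroup E, W.index = p → Nat.card W = p ^ 2 := fun W hW => by
      have := W.card_mul_index
      rw [hW, h.card, pow_succ p 2] at this
      exact Nat.eq_of_mul_eq_mul_right (Fact.out : p.Prime).pos this
    have eZ := Subgroup.eq_of_le_of_card_ge (hS.trans inf_le_left) (by rw [hcardof Z hc.idx]; exact hcardS)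
    have eA := Subgroup.eq_of_le_of_card_ge (hS.trans inf_le_right) (by rw [hcardof A hr.idx]; exact hcardS)
    obtain ⟨m, hm, hm1⟩ : ∃ m ∈ Z ⊓ Z.map φ.toMonoidHom, m ≠ 1 := by
      by_contra hh
      push Not at hh
      refine absurd (Subgroup.index_inf_le (H := Z) (K := Z.map φ.toMonoidHom)) ?_
      rw [(Subgroup.eq_bot_iff_forall _).mpr hh, Subgroup.index_bot, h.card, hc.idx,
        Subgroup.index_map_of_bijective φ.bijective, hc.idx]
      have := (Fact.out : p.Prime).two_le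
      nlinarith [Nat.mul_le_mul this (le_refl (p * p))]
    haveI : (Subgroup.zpowers k).Normal := ⟨fun n hn g => by rw [h.comm g n, mul_inv_cancel_right]; exact hn⟩
    obtain ⟨_, ⟨s, rfl⟩, _, ⟨t, rfl⟩, hst⟩ := Subgroup.mem_sup_of_normal_left.mp (eZ.ge hm.1)
    obtain ⟨e, he⟩ : ∃ e, e ∉ Z := by
      by_contra hh
      push Not at hh
      have := hc.idx
      rw [(Subgroup.eq_top_iff' Z).mpr hh, Subgroup.index_top] at this
      exact (Fact.out : p.Prime).one_lt.ne this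
    have heA : e ∉ A := fun hh => he (eZ ▸ eA.ge hh)
    obtain ⟨i, hi⟩ := hc.exists_power he s
    obtain ⟨j, hj⟩ := hr.exists_power heA t
    have hZA : ∀ z ∈ Z, z ∈ A := fun z hz => eA.le (eZ.ge hz)
    have fix_pow : ∀ {q : MulAut E} {B : Subgroup E} {b : E}, Tv p q B b → ∀ (n : ℤ), ∀ z ∈ B, (q ^ n) z = z :=
      fun {q B b} hq n z hz => by
        rw [hq.zpow_apply (i := 0) (by rw [zpow_zero, mul_one]; exact (hq.fix z).mpr hz) n, zero_mul, zpow_zero,
          mul_one]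
    set u := c ^ i * r ^ j with hu
    have hfix : ∀ z ∈ Z, u z = z := fun z hz => by
      show (c ^ i) ((r ^ j) z) = z
      rw [fix_pow hr j z (hZA z hz), fix_pow hc i z hz]
    have hue : u e = e * m := by
      show (c ^ i) ((r ^ j) e) = e * m
      rw [hj, map_mul, hi, map_zpow, fix_pow hc i a haZ, mul_assoc]
      exact congrArg _ hst
    have hmo : orderOf m = p := by
      refine orderOf_eq_prime ?_ hm1
      have hk1 : k ^ p = 1 := hc.korder ▸ pow_orderOf_eq_one k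
      have ha1 : a ^ p = 1 := hr.korder ▸ pow_orderOf_eq_one a
      rw [← hst, Commute.mul_pow (h.comm _ _), ← zpow_natCast (k ^ s), ← zpow_natCast (a ^ t), ← zpow_mul, ← zpow_mul,
        mul_comm s, mul_comm t, zpow_mul, zpow_mul, zpow_natCast, zpow_natCast, hk1, ha1, one_zpow, one_zpow, mul_one]
    have hut : Tv p u (fixed u) m := by
      refine tv_of_range h.comm hmo (fun hh => hm1 ?_) (hfix m hm.1) fun x => ?_
      · rw [hh, MulAut.one_apply] at hue
        exact mul_eq_left.mp hue.symm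
      · obtain ⟨y, hy, l, rfl⟩ := hc.decomp h.comm he x
        refine ⟨l, ?_⟩
        show m ^ l = (y * e ^ l)⁻¹ * u (y * e ^ l)
        rw [map_mul, map_zpow, hfix y hy, hue, Commute.mul_zpow (h.comm e m), ← mul_assoc y, inv_mul_cancel_left]
    exact (h.avoid hc hcP hut (Y.mul_mem (Y.zpow_mem hcY i) (Y.zpow_mem hrY j)) hφ hφY).2 hm.2

/-- A transvection linked to a conjugate of the given one lies in its cyclic group. -/
theorem Hyp.unique_conj (h : Hyp p X Y P) (hc : Tv p c Z k) (hcP : c ∈ P) {r : MulAut E} {A : Subgroup E} {a : E}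
    (hr : Tv p r A a) (hrX : r ∈ X) {ψ : MulAut E} (hψ : ψ ∈ X) (hl : ψ k ∈ A) :
    ψ⁻¹ * r * ψ ∈ Subgroup.zpowers c := by
  have hr' := hr.conj ψ⁻¹
  rw [inv_inv] at hr'
  have hX : ψ⁻¹ * r * ψ ∈ X := X.mul_mem (X.mul_mem (X.inv_mem hψ) hrX) hψ
  refine h.unique hc hcP hr' (h.mem_of_linked hc hr' (h.YX (h.PY hcP)) hX (h.PY hcP) (Or.inl ?_))
  exact ⟨ψ k, hl, MulAut.inv_apply_self _ _ _⟩

theorem Hyp.zpowers_eq (h : Hyp p X Y P) (hc : Tv p c Z k) (hcP : c ∈ P) : P = Subgroup.zpowers c := by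
  have hpp : p.Prime := Fact.out
  refine le_antisymm (fun x hx => ?_) (Subgroup.zpowers_le.mpr hcP)
  obtain ⟨φ, hφ, hφY⟩ := h.proper
  have hcY := h.PY hcP
  obtain ⟨hl, hk⟩ := h.avoid hc hcP hc hcY hφ hφY
  have hxY := h.PY hx
  have hxX := h.YX hxY
  -- an element of the cyclic group which is nontrivial has the same centre and axis
  have hpow : ∀ {r : MulAut E} {A : Subgroup E} {a : E}, Tv p r A a → r ∈ Subgroup.zpowers c →
      A = Z ∧ a ∈ Subgroup.zpowers k := by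
    rintro _ A a hr ⟨j, rfl⟩
    have hfix : ∀ z ∈ Z, (c ^ j) z = z := fun z hz => by
      rw [hc.zpow_apply (i := 0) (by rw [zpow_zero, mul_one]; exact (hc.fix z).mpr hz) j, zero_mul, zpow_zero,
        mul_one]
    have hA : Z = A := by
      refine Subgroup.eq_of_le_of_card_ge (fun z hz => (hr.fix z).mp (hfix z hz)) (le_of_eq ?_)
      have h1 := A.card_mul_index
      have h2 := Z.card_mul_index
      rw [hr.idx] at h1
      rw [hc.idx] at h2
      exact Nat.eq_of_mul_eq_mul_right hpp.pos (h1.trans h2.symm)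
    refine ⟨hA.symm, ?_⟩
    obtain ⟨e, he⟩ : ∃ e, e ∉ A := by
      by_contra hh
      push Not at hh
      have := hr.idx
      rw [(Subgroup.eq_top_iff' A).mpr hh, Subgroup.index_top] at this
      exact hpp.one_lt.ne this
    obtain ⟨i, hi⟩ := hr.range e
    obtain ⟨t, ht⟩ := hc.range e
    have h1 : a ^ i = k ^ (t * j) := by
      rw [show a ^ i = _ from hi, hc.zpow_apply (show c e = e * k ^ t by
        rw [show k ^ t = _ from ht, mul_inv_cancel_left]) j, inv_mul_cancel_left]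
    have hnd : ¬ (p : ℤ) ∣ i := fun hd => he ((hr.fix e).mp (by
      rw [← hr.korder] at hd
      exact (inv_mul_eq_one.mp ((show a ^ i = _ from hi).symm.trans (orderOf_dvd_iff_zpow_eq_one.mp hd))).symm))
    obtain ⟨u, v, huv⟩ : IsCoprime i (p : ℤ) :=
      ((Nat.prime_iff_prime_int.mp Fact.out).coprime_iff_not_dvd.mpr hnd).symm
    refine ⟨t * j * u, ?_⟩
    show k ^ (t * j * u) = a
    rw [zpow_mul, ← h1, ← zpow_mul]
    calc a ^ (i * u) = a ^ (i * u) * (a ^ (p : ℤ)) ^ v := by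
          rw [zpow_natCast, ← hr.korder, pow_orderOf_eq_one, one_zpow, mul_one]
      _ = a := by rw [← zpow_mul, ← zpow_add, show i * u + (p : ℤ) * v = u * i + v * p by ring, huv, zpow_one]
  obtain ⟨hxZ, hxk⟩ := hpow (hc.conj x) (h.unique hc hcP (hc.conj x)
    (Y.mul_mem (Y.mul_mem hxY hcY) (Y.inv_mem hxY)))
  -- the image of an outside transvection
  set χ := x * φ with hχ
  have hχY : χ ∉ Y := fun hm => hφY ((Y.mul_mem_cancel_left hxY).mp hm)
  have hr := hc.conj χ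
  have hkA := (h.avoid hc hcP hc hcY (X.mul_mem hxX hφ) hχY).2
  obtain ⟨w, hw, i, he⟩ := hr.decomp h.comm hkA (φ k)
  obtain ⟨j, hj⟩ := hc.exists_power hl (-i)
  set ψ := c ^ j * φ with hψd
  obtain ⟨hψ, hψY⟩ := h.zpow_mem hcP hφ hφY j
  have hψk : ψ k = w := by
    show (c ^ j) (φ k) = w
    rw [hj, he, mul_assoc, ← zpow_add, add_neg_cancel, zpow_zero, mul_one]
  have hm := h.unique_conj hc hcP hr (X.mul_mem (X.mul_mem (X.mul_mem hxX hφ) (h.YX hcY)) (X.inv_mem (X.mul_mem hxX hφ)))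
    hψ (hψk ▸ hw)
  obtain ⟨hA, ha⟩ : (Z.map χ.toMonoidHom).map (ψ⁻¹).toMonoidHom = Z ∧ ψ⁻¹ (χ k) ∈ Subgroup.zpowers k := by
    refine hpow ((hr).conj ψ⁻¹) ?_
    rwa [inv_inv]
  have hA' : Z.map χ.toMonoidHom = Z.map ψ.toMonoidHom := by
    refine Subgroup.map_injective (f := (ψ⁻¹).toMonoidHom) (MulEquiv.injective _) ?_
    rw [hA, Subgroup.map_map]
    conv_lhs => rw [← Subgroup.map_id Z]
    congr 1
    ext z
    exact (MulAut.inv_apply_self _ ψ z).symm
  set y := c ^ (-j) * x with hy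
  suffices hy1 : y = 1 by
    refine ⟨j, ?_⟩
    show c ^ j = x
    rw [← mul_one (c ^ j), ← hy1, hy, ← mul_assoc, ← zpow_add, add_neg_cancel, zpow_zero, one_mul]
  obtain ⟨n, hn⟩ := h.Pp ⟨y, P.mul_mem (P.zpow_mem hcP _) hx⟩
  have hyp : y ^ p ^ n = 1 := congrArg Subtype.val hn
  have hcinv : ∀ e, (c ^ (-j)) ((c ^ j) e) = e := fun e => by
    rw [← MulAut.mul_apply, ← zpow_add, neg_add_cancel, zpow_zero, MulAut.one_apply]
  have hfixc : ∀ n : ℤ, ∀ z ∈ Z, (c ^ n) z = z := fun n z hz => by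
    rw [hc.zpow_apply (i := 0) (by rw [zpow_zero, mul_one]; exact (hc.fix z).mpr hz) n, zero_mul, zpow_zero,
      mul_one]
  set M := Z ⊓ Z.map φ.toMonoidHom with hMdef
  have hMy : ∀ m ∈ M, y m ∈ M := by
    intro m hm'
    have h1 : x m ∈ Z := hxZ.le ⟨m, hm'.1, rfl⟩
    obtain ⟨z, hz, hzm⟩ := hm'.2
    have h2 : x m ∈ Z.map ψ.toMonoidHom := by
      rw [← hA']
      exact ⟨z, hz, show x (φ z) = x m by rw [show φ z = m from hzm]⟩
    obtain ⟨z', hz', hz'e⟩ := h2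
    have hz'' : (c ^ j) (φ z') = x m := hz'e
    show (c ^ (-j)) (x m) ∈ M
    refine ⟨?_, ?_⟩
    · rw [hfixc _ _ h1]
      exact h1
    · rw [← hz'', hcinv]
      exact ⟨z', hz', rfl⟩
  have hky : ∀ z ∈ Subgroup.zpowers k, y z ∈ Subgroup.zpowers k := by
    rintro _ ⟨t, rfl⟩
    show (c ^ (-j)) (x (k ^ t)) ∈ _
    rw [map_zpow x, map_zpow, hfixc _ (x k) ((Subgroup.zpowers_le.mpr hc.kZ) hxk)]
    exact (Subgroup.zpowers k).zpow_mem hxk t
  have hly : ∀ z ∈ Subgroup.zpowers (φ k), y z ∈ Subgroup.zpowers (φ k) := by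
    rintro _ ⟨t, rfl⟩
    rw [map_zpow]
    refine (Subgroup.zpowers (φ k)).zpow_mem ?_ t
    obtain ⟨s, hs⟩ := ha
    refine ⟨s, ?_⟩
    show φ k ^ s = (c ^ (-j)) (x (φ k))
    have h1 : χ k = ψ (k ^ s) := by rw [show k ^ s = _ from hs, MulAut.apply_inv_self]
    have h2 : x (φ k) = (c ^ j) (φ (k ^ s)) := h1
    rw [h2, hcinv, map_zpow]
  have hstep : ∀ {L : Subgroup E}, Nat.card L ∣ p → (∀ z ∈ L, y z ∈ L) → ∀ z ∈ L, y z = z := by
    intro L hL hyL z hz
    have := EssentialSmall.inv_mul_mem_of_step (K := ⊥) (L := L) hyp (fun x hx => by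
      rw [Subgroup.mem_bot] at hx ⊢; rw [hx, map_one]) hyL (by rw [Subgroup.relIndex_bot_left]; exact hL) z hz
    rw [Subgroup.mem_bot] at this
    exact (inv_mul_eq_one.mp this).symm
  have hMc : Nat.card M ∣ p := by
    obtain ⟨i, hi, e⟩ := (Nat.dvd_prime_pow hpp).mp (h.card ▸ M.card_subgroup_dvd_card)
    have hlt : M < Z := lt_of_le_of_ne inf_le_left fun e' => hk (e'.ge hc.kZ).2
    have hZc : Nat.card Z = p ^ 2 := by
      have := Z.card_mul_index
      rw [hc.idx, h.card, pow_succ p 2] at this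
      exact Nat.eq_of_mul_eq_mul_right hpp.pos this
    have hlt' : Nat.card M < p ^ 2 := hZc ▸ lt_of_le_of_ne (Subgroup.card_le_of_le hlt.le)
      fun e' => hlt.ne (Subgroup.eq_of_le_of_card_ge hlt.le e'.ge)
    rw [e, Nat.pow_lt_pow_iff_right hpp.one_lt] at hlt'
    rw [e]
    exact (pow_dvd_pow p (show i ≤ 1 by omega)).trans (by rw [pow_one])
  refine MulEquiv.ext fun e => ?_
  show y e = e
  obtain ⟨z, hz, i', rfl⟩ := hc.decomp h.comm hl e
  obtain ⟨m, hm', i'', rfl⟩ := (hc.conj φ).decomp h.comm hk z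
  have hmM : m ∈ M := ⟨(Z.mul_mem_cancel_right (Z.zpow_mem hc.kZ i'')).mp hz, hm'⟩
  rw [map_mul, map_mul, hstep hMc hMy m hmM,
    hstep (by rw [Nat.card_zpowers, hc.korder]) hky _ (Subgroup.zpow_mem _ (Subgroup.mem_zpowers k) i''),
    hstep (by rw [Nat.card_zpowers, (hc.conj φ).korder]) hly _ (Subgroup.zpow_mem _ (Subgroup.mem_zpowers _) i')]

/-- Torus elements of the group generated by two opposite transvections. -/
theorem Hyp.exists_torus (h : Hyp p X Y P) (hc : Tv p c Z k) (hcP : c ∈ P) : ∃ l : E, l ∉ Z ∧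
    ∃ M : Subgroup E, M ≤ Z ∧ k ∉ M ∧ (∀ z ∈ Z, ∃ y ∈ M, ∃ i : ℤ, z = y * k ^ i) ∧
      (∀ a b : ℤ, (p : ℤ) ∣ a * b - 1 → ∃ τ ∈ X, τ k = k ^ a ∧ τ l = l ^ b ∧ ∀ m ∈ M, τ m = m) := by
  obtain ⟨φ, hφ, hφY⟩ := h.proper
  have hcY := h.PY hcP
  have hcX := h.YX hcY
  obtain ⟨hl, hk⟩ := h.avoid hc hcP hc hcY hφ hφY
  have hd := hc.conj φ
  set d := φ * c * φ⁻¹ with hdd
  have hdX : d ∈ X := X.mul_mem (X.mul_mem hφ hcX) (X.inv_mem hφ)
  set l := φ k with hld
  refine ⟨l, hl, Z ⊓ Z.map φ.toMonoidHom, inf_le_left, fun hm => hk hm.2, fun z hz => ?_, fun a b hab => ?_⟩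
  · obtain ⟨y, hy, i, rfl⟩ := hd.decomp h.comm hk z
    exact ⟨y, ⟨(Z.mul_mem_cancel_right (Z.zpow_mem hc.kZ i)).mp hz, hy⟩, i, rfl⟩
  have hfc : ∀ n : ℤ, ∀ z ∈ Z, (c ^ n) z = z := fun n z hz => by
    rw [hc.zpow_apply (i := 0) (by rw [zpow_zero, mul_one]; exact (hc.fix z).mpr hz) n, zero_mul, zpow_zero,
      mul_one]
  have hfd : ∀ n : ℤ, ∀ z ∈ Z.map φ.toMonoidHom, (d ^ n) z = z := fun n z hz => by
    rw [hd.zpow_apply (i := 0) (by rw [zpow_zero, mul_one]; exact (hd.fix z).mpr hz) n, zero_mul, zpow_zero,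
      mul_one]
  have hck : ∀ n : ℤ, (c ^ n) k = k := fun n => hfc n k hc.kZ
  have hdl : ∀ n : ℤ, (d ^ n) l = l := fun n => hfd n l hd.kZ
  have hweyl : ∀ s t : ℤ, (p : ℤ) ∣ s * t - 1 → ∃ w ∈ X, w k = l ^ (-t) ∧ w l = k ^ s ∧
      ∀ m ∈ Z ⊓ Z.map φ.toMonoidHom, w m = m := by
    intro s t hst
    obtain ⟨i, hi⟩ := hc.exists_power hl s
    obtain ⟨j, hj⟩ := hd.exists_power hk (-t)
    have hkp : ∀ {x : E}, orderOf x = p → x ^ (s * t) = x := fun {x} hx => by
      rw [show s * t = s * t - 1 + 1 by ring, zpow_add, zpow_one,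
        orderOf_dvd_iff_zpow_eq_one.mp (by rw [hx]; exact hst), one_mul]
    refine ⟨c ^ i * d ^ j * c ^ i, X.mul_mem (X.mul_mem (X.zpow_mem hcX i) (X.zpow_mem hdX j)) (X.zpow_mem hcX i),
      ?_, ?_, fun m hm => ?_⟩
    · show (c ^ i) ((d ^ j) ((c ^ i) k)) = _
      rw [hck, hj, map_mul, hck, map_zpow, hi, Commute.mul_zpow (h.comm _ _), ← zpow_mul k, mul_neg, zpow_neg k,
        hkp hc.korder, h.comm (l ^ (-t)), mul_inv_cancel_left]
    · show (c ^ i) ((d ^ j) ((c ^ i) l)) = _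
      rw [hi, map_mul, hdl, map_zpow, hj, Commute.mul_zpow (h.comm _ _), ← zpow_mul l, neg_mul, mul_comm t, zpow_neg l,
        hkp hd.korder, h.comm (k ^ s), mul_inv_cancel_left, map_zpow, hck]
    · show (c ^ i) ((d ^ j) ((c ^ i) m)) = m
      rw [hfc i m hm.1, hfd j m hm.2, hfc i m hm.1]
  obtain ⟨w, hw, hwk, hwl, hwm⟩ := hweyl b a (by rwa [mul_comm])
  obtain ⟨v, hv, hvk, hvl, hvm⟩ := hweyl (-1) (-1) (by norm_num)
  refine ⟨v * w, X.mul_mem hv hw, ?_, ?_, fun m hm => by rw [MulAut.mul_apply, hwm m hm, hvm m hm]⟩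
  · rw [MulAut.mul_apply, hwk, map_zpow, hvl, ← zpow_mul]
    congr 1
    ring
  · rw [MulAut.mul_apply, hwl, map_zpow, hvk, ← zpow_mul]
    congr 1
    ring

end Cfsg.MaxClassCube
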