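import Cfsg.Agent.Lib.Fusion.MaxClassCube.Moves

/-!
The torus of an essential subgroup of order `p ^ 3` acting on the last three layers.
-/

set_option autoImplicit false
set_option linter.unusedSectionVars false

namespace Cfsg.MaxClassCube

open scoped commutatorElement
open FusionSystem

variable {Ω : Type*} [Group Ω] {S : Subgroup Ω} [Finite S] {p : ℕ} [Fact p.Prime] {n : ℕ}
  {F : FusionSystem S} {E : Subgroup Ω}

/-- An injective map sending a subgroup into itself reflects membership in it. -/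
theorem mem_iff_of_mapsTo {M : Subgroup Ω} {σ : M →* Ω} (hσ : Function.Injective σ) {A : Subgroup Ω} [Finite A]
    (hAM : A ≤ M) (h : ∀ x : M, (x : Ω) ∈ A → σ x ∈ A) (x : M) : σ x ∈ A ↔ (x : Ω) ∈ A := by
  refine ⟨fun hx => ?_, h x⟩
  have hinj : Function.Injective (fun a : A => (⟨σ ⟨a, hAM a.2⟩, h _ a.2⟩ : A)) := fun a b e =>
    Subtype.ext (congrArg Subtype.val (hσ (congrArg Subtype.val e)) :)
  obtain ⟨a, ha⟩ := Finite.surjective_of_injective hinj ⟨σ x, hx⟩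
  have e : (⟨(a : Ω), hAM a.2⟩ : M) = x := hσ (congrArg Subtype.val ha)
  rw [← e]
  exact a.2

/-- The data attached to a transvection induced by `z` with axis `A`. -/
structure Trans (p : ℕ) (S E A : Subgroup Ω) (z : Ω) (k : E) : Prop where
  mem : z ∈ normalizerIn S E
  tv : Tv p (conjAut mem.2) (A.subgroupOf E) k
  hP : conjAut mem.2 ∈ autInducedBy S E
  le : A ≤ E
  cardA : Nat.card A = p ^ 2
  not_mem : z ∉ E

namespace Cube

theorem exists_trans (h : Cube p n F E) {A : Subgroup Ω} (hAE : A ≤ E) (hA : Nat.card A = p ^ 2) {z : Ω}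
    (hzS : z ∈ S) (hzE : z ∉ E) (hzA : ∀ a ∈ A, z * a = a * z) (hcomm : ∀ e ∈ E, ⁅z, e⁆ ∈ A) {e₀ : Ω}
    (he₀ : e₀ ∈ E) (he₀A : e₀ ∉ A) :
    ∃ k : E, (k : Ω) = e₀⁻¹ * (z * e₀ * z⁻¹) ∧ Trans p S E A z k := by
  haveI := h.finE
  have hz : z ∈ normalizerIn S E := ⟨hzS, mem_normalizer_of_comm fun e he => hAE (hcomm e he)⟩
  have hke : e₀⁻¹ * (z * e₀ * z⁻¹) ∈ A := by
    have h1 : ⁅z, e₀⁆ ∈ A := hcomm e₀ he₀
    have h2 : e₀⁻¹ * (z * e₀ * z⁻¹) = ⁅z, e₀⁆ := by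
      rw [show e₀⁻¹ * (z * e₀ * z⁻¹) = e₀⁻¹ * ⁅z, e₀⁆ * e₀ by rw [commutatorElement_def]; group,
        mul_assoc, h.comm _ (hAE h1) e₀ he₀, inv_mul_cancel_left]
    rwa [h2]
  let k : E := ⟨_, hAE hke⟩
  have hfixA : ∀ a : E, (a : Ω) ∈ A → conjAut hz.2 a = a := fun a ha => Subtype.ext (by
    rw [conjAut_apply, hzA a ha, mul_inv_cancel_right])
  have hcard : Nat.card E = Nat.card A * p := by rw [h.card, hA, ← pow_succ]
  have hdec : ∀ e : E, ∃ a : E, (a : Ω) ∈ A ∧ ∃ i : ℤ, e = a * (⟨e₀, he₀⟩ : E) ^ i := by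
    intro e
    haveI : Finite A := finite_of_le (hAE.trans h.le)
    obtain ⟨a, ha, i, hi⟩ := decomp_card hAE hcard he₀ he₀A (mem_normalizer_of_comm fun a ha => by
      rw [commutatorElement_eq_one_iff_mul_comm.mpr (h.comm e₀ he₀ a (hAE ha))]; exact A.one_mem) e.2
    exact ⟨⟨a, hAE ha⟩, ha, i, Subtype.ext (by rw [Subgroup.coe_mul, SubgroupClass.coe_zpow]; exact hi)⟩
  have hrange : ∀ e : E, e⁻¹ * conjAut hz.2 e ∈ Subgroup.zpowers k := by
    intro e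
    obtain ⟨a, ha, i, rfl⟩ := hdec e
    refine ⟨i, ?_⟩
    have hc : Commute (⟨e₀, he₀⟩ : E)⁻¹ (conjAut hz.2 ⟨e₀, he₀⟩) := Subtype.ext (h.comm _ (SetLike.coe_mem _) _ (SetLike.coe_mem _))
    show k ^ i = _
    rw [map_mul, map_zpow, hfixA a ha, mul_inv_rev, mul_assoc, inv_mul_cancel_left, ← inv_zpow, ← hc.mul_zpow]
    congr 1
  have hk1 : k ≠ 1 := by
    intro e
    refine hzE (h.centralizerIn_le ⟨hzS, Subgroup.mem_centralizer_iff.mpr fun x hx => ?_⟩)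
    have h1 := hrange ⟨x, hx⟩
    rw [e, Subgroup.zpowers_one_eq_bot, Subgroup.mem_bot, inv_mul_eq_one] at h1
    have h2 := congrArg Subtype.val h1
    rw [conjAut_apply] at h2
    exact (mul_inv_eq_iff_eq_mul.mp h2.symm).symm
  have hzk : z * (k : Ω) * z⁻¹ = k := by rw [hzA _ hke, mul_inv_cancel_right]
  obtain ⟨htv, hP⟩ := h.tv_of_element hz hzE hk1 hzk hrange
  have hfix : fixed (conjAut hz.2) = A.subgroupOf E := by
    refine (Subgroup.eq_of_le_of_card_ge (fun a ha => hfixA a ha) (le_of_eq ?_)).symm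
    rw [Nat.card_congr (Subgroup.subgroupOfEquivOfLe hAE).toEquiv, hA]
    have h1 := (fixed (conjAut hz.2)).card_mul_index
    rw [htv.idx, h.card, pow_succ p 2] at h1
    exact Nat.eq_of_mul_eq_mul_right (Fact.out : p.Prime).pos h1
  exact ⟨k, rfl, ⟨hz, hfix ▸ htv, hP, hAE, hA, hzE⟩⟩

theorem Trans_card (h : Cube p n F E) {A : Subgroup Ω} {z : Ω} {k : E} (ht : Trans p S E A z k) :
    Nat.card (normalizerIn S E) = p ^ 4 := h.card_normalizer ht.tv ht.hP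

/-- The torus extended to the normalizer. -/
theorem exists_sigma (h : Cube p n F E) {A : Subgroup Ω} {z : Ω} {k : E} (ht : Trans p S E A z k) :
    ∃ l : E, (l : Ω) ∉ A ∧ ∃ M : Subgroup E, M ≤ A.subgroupOf E ∧ k ∉ M ∧
      (∀ x : E, (x : Ω) ∈ A → ∃ y ∈ M, ∃ i : ℤ, x = y * k ^ i) ∧
      ∀ a b : ℤ, (p : ℤ) ∣ a * b - 1 → ∃ σ ∈ F.Hom (normalizerIn S E), σ.range = normalizerIn S E ∧
        (∀ hx, σ ⟨k, hx⟩ = (k : Ω) ^ a) ∧ (∀ hx, σ ⟨l, hx⟩ = (l : Ω) ^ b) ∧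
        (∀ m : E, m ∈ M → ∀ hx, σ ⟨m, hx⟩ = m) ∧ (∀ (x : E) hx, σ ⟨x, hx⟩ ∈ E) ∧
        (∀ x : normalizerIn S E, (x : Ω) ∈ A → σ x ∈ A) ∧
        ∀ (u : Ω) (j : ℤ) hz, u ∈ A → σ ⟨z, hz⟩ = u * z ^ j → (p : ℤ) ∣ j * b - a := by
  haveI := h.finE
  obtain ⟨Y, hY⟩ := h.exists_hyp
  obtain ⟨l, hl, M, hMZ, hkM, hdec, htor⟩ := hY.exists_torus ht.tv ht.hP
  refine ⟨l, fun e => hl e, M, hMZ, hkM, fun x hx => hdec x hx, fun a b hab => ?_⟩
  obtain ⟨τ, hτ, hτk, hτl, hτM⟩ := htor a b hab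
  have hsub : ∀ x ∈ A.subgroupOf E, τ x ∈ A.subgroupOf E := by
    intro x hx
    obtain ⟨y, hy, i, rfl⟩ := hdec x hx
    rw [map_mul, map_zpow, hτM y hy, hτk]
    exact Subgroup.mul_mem _ (hMZ hy) (Subgroup.zpow_mem _ (Subgroup.zpow_mem _ ht.tv.kZ a) i)
  have hmap : (A.subgroupOf E).map τ.toMonoidHom = A.subgroupOf E := by
    refine Subgroup.eq_of_le_of_card_ge ?_ (le_of_eq ?_)
    · rintro _ ⟨x, hx, rfl⟩
      exact hsub x hx
    · exact (Subgroup.card_map_of_injective τ.injective).symm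
  obtain ⟨σ, hσ, hσr, hσe⟩ := h.exists_extension ht.tv ht.hP hτ hmap
  refine ⟨σ, hσ, hσr, fun hx => ?_, fun hx => ?_, fun m hm hx => ?_, fun x hx => ?_, fun x hx => ?_,
    fun u j hz hu hj => ?_⟩
  · rw [hσe k hx, hτk, SubgroupClass.coe_zpow]
  · rw [hσe l hx, hτl, SubgroupClass.coe_zpow]
  · rw [hσe m hx, hτM m hm]
  · rw [hσe x hx]
    exact SetLike.coe_mem _
  · rw [show x = ⟨((⟨(x : Ω), ht.le hx⟩ : E) : Ω), x.2⟩ from rfl, hσe ⟨(x : Ω), ht.le hx⟩]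
    exact hsub ⟨(x : Ω), ht.le hx⟩ hx
  obtain ⟨i, hi⟩ := ht.tv.range l
  have hcl : conjAut ht.mem.2 l = l * k ^ i := by rw [show k ^ i = _ from hi, mul_inv_cancel_left]
  have hni : ¬ (p : ℤ) ∣ i := fun hd => hl ((ht.tv.fix l).mp (by
    rw [← ht.tv.korder] at hd
    rw [hcl, orderOf_dvd_iff_zpow_eq_one.mp hd, mul_one]))
  have hlN : (l : Ω) ∈ normalizerIn S E := le_normalizerIn h.le l.2
  have hkN : (k : Ω) ∈ normalizerIn S E := le_normalizerIn h.le k.2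
  have h0 : (⟨z, hz⟩ : normalizerIn S E) * ⟨l, hlN⟩ * (⟨z, hz⟩ : normalizerIn S E)⁻¹ = ⟨l, hlN⟩ * ⟨k, hkN⟩ ^ i := by
    refine Subtype.ext ?_
    simp only [Subgroup.coe_mul, Subgroup.coe_inv, SubgroupClass.coe_zpow]
    have := congrArg Subtype.val hcl
    rwa [conjAut_apply, Subgroup.coe_mul, SubgroupClass.coe_zpow] at this
  have h1 := congrArg σ h0
  rw [map_mul, map_mul, map_inv, map_mul, map_zpow, hj, hσe l, hσe k, hτl, hτk] at h1
  have hcj : (conjAut ht.mem.2 ^ j) (l ^ b) = l ^ b * k ^ (i * j * b) := by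
    rw [map_zpow, ht.tv.zpow_apply hcl, Commute.mul_zpow (Subtype.ext (h.comm _ l.2 _ (SetLike.coe_mem _))), ← zpow_mul k]
  have hzj : ((conjAut ht.mem.2 ^ j) (l ^ b) : E) = (⟨u, ht.le hu⟩ : E)⁻¹ * (⟨u, ht.le hu⟩ * (conjAut ht.mem.2 ^ j) (l ^ b)) := by
    rw [inv_mul_cancel_left]
  have hpow : conjAut ht.mem.2 ^ j = E.normalizerMonoidHom (⟨z, ht.mem.2⟩ ^ j) := (map_zpow _ _ j).symm
  have hval : (((conjAut ht.mem.2 ^ j) (l ^ b) : E) : Ω) = z ^ j * ((l ^ b : E) : Ω) * (z ^ j)⁻¹ := by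
    rw [hpow]
    show ((⟨z, ht.mem.2⟩ ^ j : Subgroup.normalizer (E : Set Ω)) : Ω) * _ * _ = _
    simp [SubgroupClass.coe_zpow]
  have h2 : ((l ^ b : E) : Ω) * (((k ^ a : E)) : Ω) ^ i = ((l ^ b * k ^ (i * j * b) : E) : Ω) := by
    rw [← h1, mul_inv_rev, show u * z ^ j * ((l ^ b : E) : Ω) * ((z ^ j)⁻¹ * u⁻¹) =
      u * (z ^ j * ((l ^ b : E) : Ω) * (z ^ j)⁻¹) * u⁻¹ by group, ← hval,
      h.comm u (ht.le hu) _ (SetLike.coe_mem _), mul_inv_cancel_right, hcj]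
  rw [Subgroup.coe_mul, mul_right_inj, SubgroupClass.coe_zpow, SubgroupClass.coe_zpow, ← zpow_mul,
    ← SubgroupClass.coe_zpow, ← SubgroupClass.coe_zpow, Subtype.coe_inj, zpow_eq_zpow_iff_modEq, ht.tv.korder,
    Int.modEq_iff_dvd] at h2
  rw [show i * j * b - a * i = i * (j * b - a) by ring] at h2
  exact ((Nat.prime_iff_prime_int.mp Fact.out).dvd_mul.mp h2).resolve_left hni

/-- The normalizer map cannot send the third centre to a conjugate of `E`. -/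
theorem sigma_third (h : Cube p n F E) {A : Subgroup Ω} {z : Ω} {k : E} (ht : Trans p S E A z k)
    (hA3 : A ≤ L S (n - 3)) (h3N : L S (n - 3) ≤ normalizerIn S E) (hE3 : E ≠ L S (n - 3)) {e₀ : Ω} (he₀ : e₀ ∈ E)
    (he₀A : e₀ ∉ A) {y : Ω} (hy : y ∈ S) (hyA : y ∈ Subgroup.normalizer (A : Set Ω))
    (hyw : ∀ v ∈ L S (n - 3), ⁅y, v⁆ ∈ A) (hy3 : ⁅y, e₀⁆ ∈ L S (n - 3)) (hw : ⁅y, e₀⁆ ∉ A)
    (h3A : ∀ v ∈ L S (n - 3), ∀ a ∈ A, v * a * v⁻¹ ∈ A) (hev : ∀ v ∈ L S (n - 3), ⁅e₀, v⁆ ∈ A)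
    {σ : normalizerIn S E →* Ω} (hσ : σ ∈ F.Hom (normalizerIn S E)) (hσr : σ.range = normalizerIn S E)
    (hσA : ∀ x : normalizerIn S E, (x : Ω) ∈ A → σ x ∈ A) :
    ∀ x : normalizerIn S E, σ x ∈ L S (n - 3) ↔ (x : Ω) ∈ L S (n - 3) := by
  have hpp : p.Prime := Fact.out
  have h5 := h.mc.five
  haveI := h.finE
  haveI : Finite (normalizerIn S E) := finite_normalizerIn
  haveI : Finite (L S (n - 3)) := finite_of_le L_le
  haveI : Finite A := finite_of_le (ht.le.trans h.le)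
  have hN := h.Trans_card ht
  have hAn : ∀ v ∈ L S (n - 3), v ∈ Subgroup.normalizer (A : Set Ω) := fun v hv =>
    mem_normalizer_of_comm fun a ha => by
      rw [commutatorElement_def]
      exact A.mul_mem (h3A v hv a ha) (A.inv_mem ha)
  set R := ((L S (n - 3)).subgroupOf (normalizerIn S E)).map σ with hR
  have hRc : Nat.card R = p ^ 3 := by
    rw [hR, Subgroup.card_map_of_injective (F.injective_of_mem hσ),
      Nat.card_congr (Subgroup.subgroupOfEquivOfLe h3N).toEquiv, h.mc.card_L (by omega) (by omega),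
      show n - (n - 3) = 3 by omega]
  haveI : Finite R := Nat.finite_of_card_ne_zero (by rw [hRc]; exact pow_ne_zero _ hpp.ne_zero)
  suffices hle : R ≤ L S (n - 3) by
    exact fun x => mem_iff_of_mapsTo (F.injective_of_mem hσ) h3N (fun x hx => hle ⟨x, hx, rfl⟩) x
  intro r hr
  by_contra hr3
  have hAR : A ≤ R := by
    intro a ha
    obtain ⟨x, hx⟩ : (a : Ω) ∈ σ.range := hσr.ge (le_normalizerIn h.le (ht.le ha))
    have : (x : Ω) ∈ A := (mem_iff_of_mapsTo (F.injective_of_mem hσ) (ht.le.trans (le_normalizerIn h.le)) hσA x).mp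
      (hx ▸ ha)
    exact ⟨x, hA3 this, hx⟩
  have hrN : r⁻¹ ∈ normalizerIn S E := by
    obtain ⟨x, -, rfl⟩ := hr
    exact (normalizerIn S E).inv_mem (hσr.le ⟨x, rfl⟩)
  have he3 : e₀ ∉ L S (n - 3) := by
    intro he
    obtain hsup : A ⊔ Subgroup.zpowers e₀ ≤ L S (n - 3) := sup_le hA3 (Subgroup.zpowers_le.mpr he)
    refine hE3 (Subgroup.eq_of_le_of_card_ge (fun x hx => ?_) ?_)
    · obtain ⟨a, ha, i, rfl⟩ := decomp_card ht.le (by rw [h.card, ht.cardA, ← pow_succ]) he₀ he₀A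
        (hAn e₀ he) hx
      exact hsup (Subgroup.mul_mem_sup ha ⟨i, rfl⟩)
    · rw [h.mc.card_L (by omega) (by omega), h.card, show n - (n - 3) = 3 by omega]
  obtain ⟨v, hv, i, hi⟩ := decomp_card h3N (by rw [hN, h.mc.card_L (by omega) (by omega),
    show n - (n - 3) = 3 by omega, ← pow_succ]) (le_normalizerIn h.le he₀) he3
    (le_normalizer_L (h.le he₀)) hrN
  obtain ⟨a, ha, j, hj⟩ := decomp_card hA3 (by rw [ht.cardA, h.mc.card_L (by omega) (by omega),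
    show n - (n - 3) = 3 by omega, ← pow_succ]) hy3 hw (hAn _ hy3) ((L S (n - 3)).inv_mem hv)
  have hre : r = a * e₀ ^ (-i) * (⁅y, e₀⁆) ^ j := by
    rw [← inv_inv r, hi, mul_inv_rev, hj, ← mul_assoc, zpow_neg, h.comm a (ht.le ha) _ (E.inv_mem (E.zpow_mem he₀ i))]
  have hni : ¬ (p : ℤ) ∣ -i := by
    intro hd
    refine hr3 ?_
    obtain ⟨d, hd⟩ := hd
    rw [hre, hd, zpow_mul, zpow_natCast, h.exp e₀ he₀, one_zpow, mul_one]
    exact Subgroup.mul_mem _ (hA3 ha) (Subgroup.zpow_mem _ hy3 j)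
  have hsupE : A ⊔ Subgroup.zpowers e₀ = E := by
    refine le_antisymm (sup_le ht.le (Subgroup.zpowers_le.mpr he₀)) fun x hx => ?_
    obtain ⟨a, ha, i, rfl⟩ := decomp_card ht.le (by rw [h.card, ht.cardA, ← pow_succ]) he₀ he₀A
      (mem_normalizer_of_comm fun a ha => by
        rw [commutatorElement_eq_one_iff_mul_comm.mpr (h.comm e₀ he₀ a (ht.le ha))]; exact A.one_mem) hx
    exact Subgroup.mul_mem_sup ha ⟨i, rfl⟩
  obtain ⟨t, ht'⟩ := exists_conj_image (p := p) hyA (mem_normalizer_of_comm fun a ha => by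
      rw [commutatorElement_eq_one_iff_mul_comm.mpr (h.comm e₀ he₀ a (ht.le ha))]; exact A.one_mem)
    (hAn _ hy3) (by rw [h.exp e₀ he₀]; exact A.one_mem) (hev _ hy3) rfl (hyw _ hy3) hAR
    (by rw [hsupE, hRc, h.card]) hr ha hre hni
  rw [hsupE] at ht'
  have hER : F.IsConj E R := ht' ▸ h.conj_map (S.zpow_mem hy t)
  have hLR : F.IsConj (L S (n - 3)) R := by
    refine ⟨_, F.restrict_mem hσ h3N, ?_⟩
    rw [MonoidHom.range_comp, hR, Subgroup.inclusion_range]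
  have := (h.conj_facts (hER.trans hLR.symm)).2.2.2
  rw [hN, show normalizerIn S (L S (n - 3)) = S from le_antisymm normalizerIn_le (le_inf le_rfl le_normalizer_L),
    h.mc.card, Nat.pow_le_pow_iff_right hpp.one_lt] at this
  omega

/-- Weights: an automorphism of `S` from a map preserving the last three layers. -/
theorem exists_alpha (h : Cube p n F E) (h3N : L S (n - 3) ≤ normalizerIn S E)
    {σ : normalizerIn S E →* Ω} (hσ : σ ∈ F.Hom (normalizerIn S E))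
    (h3 : ∀ x : normalizerIn S E, σ x ∈ L S (n - 3) ↔ (x : Ω) ∈ L S (n - 3))
    (h2 : ∀ x : normalizerIn S E, (x : Ω) ∈ L S (n - 2) → σ x ∈ L S (n - 2))
    (h1 : ∀ x : normalizerIn S E, (x : Ω) ∈ L S (n - 1) → σ x ∈ L S (n - 1)) :
    ∃ α : MulAut S, ∀ (x : S) (hx : (x : Ω) ∈ L S (n - 3)), ((α x : S) : Ω) = σ ⟨x, h3N hx⟩ := by
  have h5 := h.mc.five
  haveI : Finite (L S (n - 3)) := finite_of_le L_le
  have hres := F.restrict_mem hσ h3N
  refine h.exists_global hres ?_ (fun x => ?_) fun x => ?_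
  · refine Subgroup.eq_of_le_of_card_ge ?_ (le_of_eq ?_)
    · rintro _ ⟨x, rfl⟩
      exact (h3 (Subgroup.inclusion h3N x)).mpr x.2
    · exact Nat.card_congr (MonoidHom.ofInjective (F.injective_of_mem hres)).toEquiv
  · haveI : Finite (L S (n - 2)) := finite_of_le L_le
    exact mem_iff_of_mapsTo (F.injective_of_mem hσ) ((L_anti (by omega)).trans h3N) h2 (Subgroup.inclusion h3N x)
  · haveI : Finite (L S (n - 1)) := finite_of_le L_le
    exact mem_iff_of_mapsTo (F.injective_of_mem hσ) ((L_anti (by omega)).trans h3N) h1 (Subgroup.inclusion h3N x)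

theorem weight_input (h : Cube p n F E) {k : ℕ} (hk : 2 ≤ k) {α : MulAut S} {x : S}
    (hx : (x : Ω) ∈ L S k) {u : Ω} (hu : u ∈ L S (k + 1)) {J : ℤ} {j : ℕ} (hJ : (p : ℤ) ∣ J - j)
    (he : ((α x : S) : Ω) = u * (x : Ω) ^ J) :
    (x ^ j)⁻¹ * α x ∈ CfsgLib.PolySeq.fil S (k + 1) := by
  obtain ⟨d, hd⟩ := hJ
  have hp : (x : Ω) ^ p ∈ L S (k + 1) := by
    have := CfsgLib.MaxClassRank.pow_mem_fil_succ h.mc.three h.mc.card h.mc.cls hk (mem_L.mp hx)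
    exact mem_L.mpr this
  refine mem_L.mp ?_
  rw [Subgroup.coe_mul, he, Subgroup.coe_inv, SubgroupClass.coe_pow, show J = (j : ℤ) + (p : ℤ) * d by omega,
    zpow_add, zpow_natCast, zpow_mul, zpow_natCast,
    show ((x : Ω) ^ j)⁻¹ * (u * ((x : Ω) ^ j * ((x : Ω) ^ p) ^ d)) =
      (((x : Ω) ^ j)⁻¹ * u * ((x : Ω) ^ j)) * ((x : Ω) ^ p) ^ d by group]
  refine Subgroup.mul_mem _ ?_ (Subgroup.zpow_mem _ hp d)
  have := conj_mem_L hu (S.inv_mem (S.pow_mem x.2 j))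
  rwa [inv_inv] at this

end Cube

end Cfsg.MaxClassCube
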